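import Groth.Agent.CubeConsLib.Poincare
import Groth.Agent.CubeConsLib.Rel
import Groth.Agent.CubeConsLib.GeomInt
import Groth.Agent.AlgSpLib.ReducedSmooth

/-!
# The Poincaré class is additive in both variables
-/

set_option autoImplicit false
set_option maxRecDepth 8000
set_option maxHeartbeats 1000000
set_option backward.isDefEq.respectTransparency false

noncomputable section

universe u

open CategoryTheory MonoidalCategory CartesianMonoidalCategory MonObj AlgebraicGeometry
open Limits (pullback)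
open CubeConsLib

namespace Groth.Agent.FMTransLib

variable {k : Type u} [Field k] {A At : Over (Spec (CommRingCat.of k))} [GrpObj A] [IsProper A.hom] [Flat A.hom]
  [LocallyOfFinitePresentation A.hom] [GeometricallyIntegral A.hom] [GrpObj At]
  {φ : ∀ T : Over (Spec (CommRingCat.of k)), PicF.Cl (PicF.XT A.hom T) → (T ⟶ At)}
  {P : (PicF.XT A.hom At).Modules} (hP : PicF.IsInvertible P)
  (hPξ : AbDual.IsPoincareCl A At φ (PicF.cl P))

/-- The Poincaré class, evaluated. -/
def cP {V : Over (Spec (CommRingCat.of k))} (x : V ⟶ A) (g : V ⟶ At) : PicA V.left :=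
  pullA (lift x g).left (clA hP)

omit [IsProper A.hom] [Flat A.hom] [LocallyOfFinitePresentation A.hom] [GeometricallyIntegral A.hom]
  [GrpObj A] [GrpObj At] in
theorem pullA_cP {V W : Over (Spec (CommRingCat.of k))} (w : W ⟶ V) (x : V ⟶ A) (g : V ⟶ At) :
    pullA w.left (cP hP x g) = cP hP (w ≫ x) (w ≫ g) := by
  rw [cP, cP, pullA_comp, ← Over.comp_left, comp_lift]

omit [IsProper A.hom] [Flat A.hom] [LocallyOfFinitePresentation A.hom] [GeometricallyIntegral A.hom]
  [GrpObj A] [GrpObj At] in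
theorem cP_id : cP hP (fst A At) (snd A At) = clA hP := by
  rw [cP, lift_fst_snd, Over.id_left]
  exact pullA_id _

include hPξ in
omit [IsProper A.hom] [Flat A.hom] [LocallyOfFinitePresentation A.hom] [GeometricallyIntegral A.hom] in
theorem cP_one_left {V : Over (Spec (CommRingCat.of k))} (g : V ⟶ At) : cP hP 1 g = 0 := by
  have h : cP hP (1 : At ⟶ A) (𝟙 At) = 0 := by
    have e : PicF.secT A.hom η[A].left (Over.w η[A]) At = (lift (1 : At ⟶ A) (𝟙 At)).left := by
      apply Limits.pullback.hom_ext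
      · refine (Limits.pullback.lift_fst _ _ _).trans ?_
        refine Eq.trans ?_ (congrArg Over.Hom.left (lift_fst (1 : At ⟶ A) (𝟙 At))).symm
        rw [show (1 : At ⟶ A) = toUnit _ ≫ η from Hom.one_def, Over.comp_left]
        rfl
      · exact (Limits.pullback.lift_snd _ _ _).trans (congrArg Over.Hom.left (lift_snd (1 : At ⟶ A) (𝟙 At))).symm
    exact (congrArg (fun j => pullA j (clA hP)) e.symm).trans (clA_zero_of_trivialCl _ hP hPξ.2.2)
  have h' := congrArg (pullA g.left) h
  rw [pullA_cP, MonObj.comp_one, Category.comp_id, map_zero] at h'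
  exact h'

variable (hA : AbDual.IsDualAV Scheme.fppfPrecoverage A At φ)

include hPξ hA in
theorem cP_one_right {V : Over (Spec (CommRingCat.of k))} (x : V ⟶ A) : cP hP x 1 = 0 := by
  let T : Over (Spec (CommRingCat.of k)) := 𝟙_ _
  haveI : IsReduced T.left := inferInstanceAs (IsReduced (Spec (CommRingCat.of k)))
  haveI : LocallyOfFiniteType T.hom := inferInstanceAs (LocallyOfFiniteType (𝟙 (Spec (CommRingCat.of k))))
  let f := PicF.XTmap A.hom (1 : T ⟶ At)
  have hL := AmpleDevLib.isInvertible_pb f hP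
  have zL : AbDual.IsPicZeroCl A.hom T (PicF.cl ((Scheme.Modules.pullback f).obj P)) :=
    isPicZeroCl_XTmap (1 : T ⟶ At) hPξ.1
  have e := eq_of_phi_eq hA hL (isInvertible_one _) zL (isPicZeroCl_structure A T)
    (by
      rw [← pullA_clA f hP, pullA_comp, secT_natural, ← pullA_comp,
        clA_zero_of_trivialCl _ hP hPξ.2.2, map_zero])
    (by rw [clA_one, map_zero])
    (by
      rw [phi_structure hA]
      refine (hA.relPic.natural At T (1 : T ⟶ At) _ hPξ.1).trans ?_
      rw [hPξ.2.1, Category.comp_id])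
  rw [clA_one, ← pullA_clA f hP] at e
  have hf : f = (lift (fst A T) (snd A T ≫ (1 : T ⟶ At))).left := by
    apply Limits.pullback.hom_ext
    · exact (XTmap_fst A.hom _).trans (congrArg Over.Hom.left (lift_fst (fst A T) (snd A T ≫ (1 : T ⟶ At)))).symm
    · exact (XTmap_snd A.hom _).trans (congrArg Over.Hom.left (lift_snd (fst A T) (snd A T ≫ (1 : T ⟶ At)))).symm
  have h : cP hP (fst A T) (snd A T ≫ (1 : T ⟶ At)) = 0 :=
    (congrArg (fun j => pullA j (clA hP)) hf.symm).trans e
  have h' := congrArg (pullA (lift x (toUnit V)).left) h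
  rw [pullA_cP, lift_fst, MonObj.comp_one, MonObj.comp_one, map_zero] at h'
  exact h'

include hPξ in
theorem cP_mul_left {V : Over (Spec (CommRingCat.of k))} (x y : V ⟶ A) (g : V ⟶ At) :
    cP hP (x * y) g = cP hP x g + cP hP y g := by
  have hs : pullA (PicF.secT A.hom η[A].left (Over.w η[A]) At) (clA hP) = 0 :=
    clA_zero_of_trivialCl _ hP hPξ.2.2
  have e := congrArg (pullA (lift (𝟙 V) g).left) (pullA_bcMap_mul hP hPξ.1 hs x y)
  have hg : ∀ z : V ⟶ A, pullA (lift (𝟙 V) g).left (pullA (AbDual.bcMap z At) (clA hP)) = cP hP z g :=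
    fun z => by
    refine (pullA_comp _ _ _).trans ?_
    have e0 : (lift (𝟙 V) g).left ≫ (z ▷ At).left = (lift z g).left := by
      rw [← Over.comp_left, lift_whiskerRight, Category.id_comp]
    rw [whiskerRight_left] at e0
    exact congrArg (fun h => pullA h _) e0
  rw [map_add, hg, hg, hg] at e
  exact e

variable [IsProper At.hom] [Flat At.hom] [LocallyOfFinitePresentation At.hom] [GeometricallyIntegral At.hom]
  [GeometricallyConnected At.hom]

include hPξ hA in
/-- Additivity in the dual variable, by the theorem of the cube. -/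
theorem cP_mul_right {V : Over (Spec (CommRingCat.of k))} (x : V ⟶ A) (g h : V ⟶ At) :
    cP hP x (g * h) = cP hP x g + cP hP x h := by
  let p1 : (A ⊗ At) ⊗ At ⟶ A := fst _ _ ≫ fst _ _
  let p2 : (A ⊗ At) ⊗ At ⟶ At := fst _ _ ≫ snd _ _
  let p3 : (A ⊗ At) ⊗ At ⟶ At := snd _ _
  have hQ : ∀ m : (A ⊗ At) ⊗ At ⟶ A ⊗ At, PicF.IsInvertible ((Scheme.Modules.pullback m.left).obj P) :=
    fun m => AmpleDevLib.isInvertible_pb m.left hP
  have h12 := HilbPolyLib.isInvertible_tensor (hQ (lift p1 (p2 * p3)))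
    (MiscFlat6.dual_isInvertible (hQ (lift p1 p2)))
  let D := CohB1.tensorMod (CohB1.tensorMod ((Scheme.Modules.pullback (lift p1 (p2 * p3)).left).obj P)
    (MiscFlat6.dual ((Scheme.Modules.pullback (lift p1 p2).left).obj P)))
    (MiscFlat6.dual ((Scheme.Modules.pullback (lift p1 p3).left).obj P))
  have hD : PicF.IsInvertible D :=
    HilbPolyLib.isInvertible_tensor h12 (MiscFlat6.dual_isInvertible (hQ (lift p1 p3)))
  have hc : clA hD = cP hP p1 (p2 * p3) - cP hP p1 p2 - cP hP p1 p3 := by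
    rw [clA_tensor h12 (MiscFlat6.dual_isInvertible (hQ _)),
      clA_tensor (hQ _) (MiscFlat6.dual_isInvertible (hQ _)), clA_dual (hQ _), clA_dual (hQ _),
      ← pullA_clA _ hP, ← pullA_clA _ hP, ← pullA_clA _ hP, cP, cP, cP]
    abel
  have key : ∀ {W : Over (Spec (CommRingCat.of k))} (j : W ⟶ (A ⊗ At) ⊗ At) (a : W ⟶ A) (b c : W ⟶ At),
      j ≫ p1 = a → j ≫ p2 = b → j ≫ p3 = c → cP hP a (b * c) - cP hP a b - cP hP a c = 0 →
      Nonempty ((Scheme.Modules.pullback j.left).obj D ≅ Coh.structureModule W.left) := by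
    rintro W j a b c rfl rfl rfl e
    refine (clA_eq_iff (AmpleDevLib.isInvertible_pb j.left hD) (isInvertible_one _)).1 ?_
    rw [clA_one, ← pullA_clA j.left hD, hc, map_sub, map_sub, pullA_cP, pullA_cP, pullA_cP, MonObj.comp_mul]
    exact e
  let j₁ : At ⊗ At ⟶ (A ⊗ At) ⊗ At := lift (lift 1 (fst At At)) (snd At At)
  let j₂ : A ⊗ At ⟶ (A ⊗ At) ⊗ At := lift (lift (fst A At) 1) (snd A At)
  let j₃ : A ⊗ At ⟶ (A ⊗ At) ⊗ At := lift (𝟙 (A ⊗ At)) 1
  have hD₁ := key j₁ 1 (fst At At) (snd At At) (by simp [j₁, p1]) (by simp [j₁, p2]) (by simp [j₁, p3])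
    (by simp [cP_one_left hP hPξ])
  have hD₂ := key j₂ (fst A At) 1 (snd A At) (by simp [j₂, p1]) (by simp [j₂, p2]) (by simp [j₂, p3])
    (by simp [cP_one_right hP hPξ hA])
  have hD₃ := key j₃ (fst A At) (snd A At) 1 (by simp [j₃, p1]) (by simp [j₃, p2]) (by simp [j₃, p3])
    (by simp [cP_one_right hP hPξ hA])
  have hη : η[A].left ≫ A.hom = 𝟙 _ := Over.w η[A]
  have hη' : η[At].left ≫ At.hom = 𝟙 _ := Over.w η[At]
  have h1 : ∀ {W B : Over (Spec (CommRingCat.of k))} [GrpObj B],
      (1 : W ⟶ B).left = W.hom ≫ η[B].left := fun {W B} _ => by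
    rw [show (1 : W ⟶ B) = toUnit _ ≫ η from Hom.one_def, Over.comp_left]
    rfl
  obtain ⟨e⟩ := trivial_triple A.hom At.hom At.hom η[A].left hη η[At].left hη' η[At].left hη'
    hD j₁.left j₂.left j₃.left hD₁ hD₂ hD₃
    (𝟙 _)
    ((Category.id_comp _).trans ((congrArg Over.Hom.left (show j₁ ≫ fst _ _ ≫ fst _ _ = 1 by simp [j₁])).trans
      (h1.trans (Category.assoc _ _ _))))
    ((Category.id_comp _).trans (congrArg Over.Hom.left (show j₁ ≫ fst _ _ ≫ snd _ _ = fst At At by simp [j₁])))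
    ((Category.id_comp _).trans (congrArg Over.Hom.left (show j₁ ≫ snd _ _ = snd At At by simp [j₁])))
    (𝟙 _)
    ((Category.id_comp _).trans (congrArg Over.Hom.left (show j₂ ≫ fst _ _ ≫ fst _ _ = fst A At by simp [j₂])))
    ((Category.id_comp _).trans ((congrArg Over.Hom.left (show j₂ ≫ fst _ _ ≫ snd _ _ = 1 by simp [j₂])).trans
      (h1.trans (Category.assoc _ _ _))))
    ((Category.id_comp _).trans (congrArg Over.Hom.left (show j₂ ≫ snd _ _ = snd A At by simp [j₂])))
    (𝟙 _)
    ((Category.id_comp _).trans (congrArg Over.Hom.left (show j₃ ≫ fst _ _ = 𝟙 (A ⊗ At) by simp [j₃])))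
    ((Category.id_comp _).trans ((congrArg Over.Hom.left (show j₃ ≫ snd _ _ = 1 by simp [j₃])).trans h1))
  have h0 : clA hD = 0 := by
    rw [← clA_one]
    exact (clA_eq_iff _ _).2 ⟨e⟩
  have e' := congrArg (pullA (lift (lift x g) h).left) (hc.symm.trans h0)
  have q1 : lift (lift x g) h ≫ p1 = x := by simp [p1]
  have q2 : lift (lift x g) h ≫ p2 = g := by simp [p2]
  have q3 : lift (lift x g) h ≫ p3 = h := by simp [p3]
  rw [map_sub, map_sub, map_zero, pullA_cP, pullA_cP, pullA_cP, MonObj.comp_mul, q1, q2, q3, sub_sub,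
    sub_eq_zero] at e'
  exact e'

end Groth.Agent.FMTransLib
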