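import Groth.Agent.FMTransLib.Core
import Groth.Agent.FMTransLib.Poinc
import Groth.Prelude.Def_AbDual

/-!
# Fourier–Mukai transforms and translations
-/

set_option autoImplicit false
set_option linter.style.haveILetI false
set_option backward.isDefEq.respectTransparency false
set_option backward.isDefEq.respectTransparency.types false
set_option maxRecDepth 8000
set_option maxHeartbeats 1000000
set_option synthInstance.maxHeartbeats 200000

universe u

open CategoryTheory CategoryTheory.Limits MonoidalCategory CartesianMonoidalCategory MonObj AlgebraicGeometry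
open CubeConsLib

attribute [local instance] HasDerivedCategory.standard

namespace Groth.Agent.FMTransLib

variable (k : Type u) [Field k]
  (A At : Over (Spec (CommRingCat.of k))) [GrpObj A] [IsProper A.hom] [Smooth A.hom] [GeometricallyConnected A.hom]
  [GrpObj At] [IsProper At.hom] [Smooth At.hom] [GeometricallyConnected At.hom]

theorem isPullback_slice (x : 𝟙_ (Over (Spec (CommRingCat.of k))) ⟶ At) :
    IsPullback (lift (𝟙 A) (toUnit A ≫ x)).left A.hom (pullback.snd A.hom At.hom) x.left := by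
  have hx : x.left ≫ At.hom = 𝟙 (Spec (CommRingCat.of k)) := Over.w x
  have hfst : (lift (𝟙 A) (toUnit A ≫ x)).left ≫ pullback.fst A.hom At.hom = 𝟙 A.left :=
    (congrArg Over.Hom.left (lift_fst (𝟙 A) (toUnit A ≫ x)))
  have hsnd : (lift (𝟙 A) (toUnit A ≫ x)).left ≫ pullback.snd A.hom At.hom = A.hom ≫ x.left :=
    (congrArg Over.Hom.left (lift_snd (𝟙 A) (toUnit A ≫ x)))
  refine IsPullback.of_right ?_ hsnd (IsPullback.of_hasPullback A.hom At.hom)
  rw [hfst, hx]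
  exact IsPullback.of_horiz_isIso ⟨by rw [Category.id_comp, Category.comp_id]⟩

theorem translate_comp_inv {B : Over (Spec (CommRingCat.of k))} [GrpObj B]
    (c : 𝟙_ (Over (Spec (CommRingCat.of k))) ⟶ B) :
    (𝟙 B * (toUnit B ≫ c)) ≫ (𝟙 B * (toUnit B ≫ c⁻¹)) = 𝟙 B := by
  rw [MonObj.comp_mul, Category.comp_id, ← Category.assoc, comp_toUnit, _root_.mul_assoc, ← MonObj.comp_mul,
    _root_.mul_inv_cancel, MonObj.comp_one, _root_.mul_one]

theorem isIso_translate {B : Over (Spec (CommRingCat.of k))} [GrpObj B]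
    (c : 𝟙_ (Over (Spec (CommRingCat.of k))) ⟶ B) : IsIso (𝟙 B * (toUnit B ≫ c)).left := by
  refine ⟨(𝟙 B * (toUnit B ≫ c⁻¹)).left, ?_, ?_⟩
  · rw [← Over.comp_left, translate_comp_inv, Over.id_left]
  · have h := translate_comp_inv k c⁻¹
    rw [inv_inv] at h
    rw [← Over.comp_left, h, Over.id_left]

theorem fm_fibre (P : (pullback A.hom At.hom).Modules) (hP : PicF.IsInvertible P)
    (x : 𝟙_ (Over (Spec (CommRingCat.of k))) ⟶ At)
    [DCoh.HasLpull (pullback.fst A.hom At.hom)] [DCoh.HasLTensorMod P] [DCoh.HasRpush (pullback.snd A.hom At.hom)]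
    [DCoh.HasLTensorMod ((Scheme.Modules.pullback (lift (𝟙 A) (toUnit A ≫ x)).left).obj P)]
    [DCoh.HasRpush A.hom] [DCoh.HasLpull x.left] :
    Nonempty (ObjectProperty.ι (DCoh.IsQCohD (X := A.left)) ⋙
        DCoh.LTensorMod ((Scheme.Modules.pullback (lift (𝟙 A) (toUnit A ≫ x)).left).obj P) ⋙ DCoh.Rpush A.hom ≅
      ObjectProperty.ι (DCoh.IsQCohD (X := A.left)) ⋙ (DCoh.Lpull (pullback.fst A.hom At.hom) ⋙
        DCoh.LTensorMod P ⋙ DCoh.Rpush (pullback.snd A.hom At.hom)) ⋙ DCoh.Lpull x.left) := by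
  haveI := KFlatLib.hasLpull (𝟙 A.left)
  obtain ⟨e⟩ := nonempty_fm_pull (pullback.fst A.hom At.hom) (pullback.snd A.hom At.hom) x.left
    (lift (𝟙 A) (toUnit A ≫ x)).left A.hom (isPullback_slice k A At x)
    (Or.inl (MorphismProperty.pullback_snd (P := @Flat) A.hom At.hom inferInstance)) (𝟙 A.left)
    (congrArg Over.Hom.left (lift_fst (𝟙 A) (toUnit A ≫ x))) hP
  obtain ⟨i⟩ := Dual3Lib.nonempty_lpull_id (𝟙 A.left) rfl
  have hM : PicF.IsInvertible ((Scheme.Modules.pullback (lift (𝟙 A) (toUnit A ≫ x)).left).obj P) :=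
    AmpleDevLib.isInvertible_pb _ hP
  obtain ⟨t⟩ := nonempty_lt_tw hM
  exact ⟨(Functor.isoWhiskerLeft _ (Functor.isoWhiskerRight (t ≪≫ (Functor.leftUnitor _).symm ≪≫
    Functor.isoWhiskerRight i.symm _) (DCoh.Rpush A.hom))) ≪≫ e.symm⟩

variable (φ : ∀ T : Over (Spec (CommRingCat.of k)), PicF.Cl (PicF.XT A.hom T) → (T ⟶ At))

theorem fm_translate_right (hφ : AbDual.IsDualAV Scheme.fppfPrecoverage A At φ)
    (P : (pullback A.hom At.hom).Modules) (hP : PicF.IsInvertible P)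
    (hPξ : AbDual.IsPoincareCl A At φ (PicF.cl P))
    (x : 𝟙_ (Over (Spec (CommRingCat.of k))) ⟶ At)
    [DCoh.HasLpull (pullback.fst A.hom At.hom)] [DCoh.HasLTensorMod P] [DCoh.HasRpush (pullback.snd A.hom At.hom)]
    [DCoh.HasLTensorMod ((Scheme.Modules.pullback (lift (𝟙 A) (toUnit A ≫ x)).left).obj P)]
    [DCoh.HasLpull (𝟙 At * (toUnit At ≫ x)).left] :
    Nonempty (ObjectProperty.ι (DCoh.IsQCohD (X := A.left)) ⋙
        DCoh.LTensorMod ((Scheme.Modules.pullback (lift (𝟙 A) (toUnit A ≫ x)).left).obj P) ⋙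
        (DCoh.Lpull (pullback.fst A.hom At.hom) ⋙ DCoh.LTensorMod P ⋙ DCoh.Rpush (pullback.snd A.hom At.hom)) ≅
      ObjectProperty.ι (DCoh.IsQCohD (X := A.left)) ⋙ (DCoh.Lpull (pullback.fst A.hom At.hom) ⋙
        DCoh.LTensorMod P ⋙ DCoh.Rpush (pullback.snd A.hom At.hom)) ⋙
        DCoh.Lpull (𝟙 At * (toUnit At ≫ x)).left) := by
  haveI := geometricallyIntegral_of_smooth_group A
  haveI := geometricallyIntegral_of_smooth_group At
  let t : At ⟶ At := 𝟙 At * (toUnit At ≫ x)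
  let j := lift (𝟙 A) (toUnit A ≫ x)
  let T : A ⊗ At ⟶ A ⊗ At := lift (fst A At) (snd A At ≫ t)
  let T' : A ⊗ At ⟶ A ⊗ At := lift (fst A At) (snd A At ≫ (𝟙 At * (toUnit At ≫ x⁻¹)))
  let Tl : pullback A.hom At.hom ⟶ pullback A.hom At.hom := T.left
  haveI : IsIso Tl := by
    refine ⟨(T'.left : pullback A.hom At.hom ⟶ pullback A.hom At.hom), ?_, ?_⟩
    · show T.left ≫ T'.left = 𝟙 (A ⊗ At).left
      rw [← Over.comp_left, show T ≫ T' = 𝟙 _ from ?_, Over.id_left]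
      · rw [comp_lift, lift_fst, reassoc_of% (lift_snd (fst A At) (snd A At ≫ t)), translate_comp_inv k x,
          Category.comp_id, lift_fst_snd]
    · show T'.left ≫ T.left = 𝟙 (A ⊗ At).left
      rw [← Over.comp_left, show T' ≫ T = 𝟙 _ from ?_, Over.id_left]
      · have h := translate_comp_inv k x⁻¹
        rw [inv_inv] at h
        rw [comp_lift, lift_fst, reassoc_of% (lift_snd (fst A At) (snd A At ≫ (𝟙 At * (toUnit At ≫ x⁻¹)))), h,
          Category.comp_id, lift_fst_snd]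
  haveI : IsIso t.left := isIso_translate k x
  have hsnd : Tl ≫ pullback.snd A.hom At.hom = pullback.snd A.hom At.hom ≫ t.left :=
    congrArg Over.Hom.left (lift_snd (fst A At) (snd A At ≫ t))
  have hfst : Tl ≫ pullback.fst A.hom At.hom = pullback.fst A.hom At.hom :=
    congrArg Over.Hom.left (lift_fst (fst A At) (snd A At ≫ t))
  obtain ⟨e⟩ := nonempty_fm_pull (pullback.fst A.hom At.hom) (pullback.snd A.hom At.hom) t.left Tl
    (pullback.snd A.hom At.hom) (IsPullback.of_horiz_isIso ⟨hsnd⟩)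
    (Or.inl (MorphismProperty.pullback_snd (P := @Flat) A.hom At.hom inferInstance))
    (pullback.fst A.hom At.hom) hfst hP
  have hM : PicF.IsInvertible ((Scheme.Modules.pullback j.left).obj P) := AmpleDevLib.isInvertible_pb _ hP
  have hpM := AmpleDevLib.isInvertible_pb (pullback.fst A.hom At.hom) hM
  have hT := AmpleDevLib.isInvertible_pb Tl hP
  have hc : clA (HilbPolyLib.isInvertible_tensor hpM hP) = clA hT := by
    rw [clA_tensor hpM hP, ← pullA_clA _ hM, ← pullA_clA _ hP, ← pullA_clA _ hP, pullA_comp]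
    have h : pullback.fst A.hom At.hom ≫ j.left = (lift (fst A At) (toUnit _ ≫ x)).left := by
      show (fst A At ≫ j).left = _
      rw [comp_lift, Category.comp_id, ← Category.assoc, comp_toUnit]
    show pullA (pullback.fst A.hom At.hom ≫ j.left) (clA hP) + clA hP =
      cP hP (fst A At) (snd A At ≫ t)
    rw [h, MonObj.comp_mul, Category.comp_id, ← Category.assoc, comp_toUnit, cP_mul_right hP hPξ hφ, cP_id,
      add_comm]
    rfl
  obtain ⟨f⟩ := (clA_eq_iff _ _).1 hc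
  obtain ⟨eM⟩ := nonempty_lt_tw hM
  obtain ⟨eP⟩ := nonempty_lt_tw hP
  obtain ⟨c⟩ := nonempty_tw_lpull (pullback.fst A.hom At.hom) hM
  obtain ⟨d⟩ := nonempty_tw_comp hpM hP
  obtain ⟨d'⟩ := nonempty_tw_congr (HilbPolyLib.isInvertible_tensor hpM hP) hT f
  let p := pullback.fst A.hom At.hom
  let q := pullback.snd A.hom At.hom
  let ιA := ObjectProperty.ι (DCoh.IsQCohD (X := A.left))
  exact ⟨(Functor.isoWhiskerLeft ιA (Functor.isoWhiskerRight eM _ ≪≫
      Functor.isoWhiskerLeft _ (Functor.isoWhiskerLeft (DCoh.Lpull p) (Functor.isoWhiskerRight eP (DCoh.Rpush q)))) :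
      ιA ⋙ DCoh.LTensorMod _ ⋙ (DCoh.Lpull p ⋙ DCoh.LTensorMod P ⋙ DCoh.Rpush q) ≅
        ιA ⋙ TW hM ⋙ (DCoh.Lpull p ⋙ TW hP ⋙ DCoh.Rpush q)) ≪≫
    (Functor.isoWhiskerLeft ιA (Functor.isoWhiskerRight c (TW hP ⋙ DCoh.Rpush q)) :
      ιA ⋙ TW hM ⋙ (DCoh.Lpull p ⋙ TW hP ⋙ DCoh.Rpush q) ≅
        ιA ⋙ DCoh.Lpull p ⋙ (TW hpM ⋙ TW hP) ⋙ DCoh.Rpush q) ≪≫
    Functor.isoWhiskerLeft ιA (Functor.isoWhiskerLeft (DCoh.Lpull p) (Functor.isoWhiskerRight (d ≪≫ d') _)) ≪≫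
    e.symm⟩

theorem fm_translate_left
    (P : (pullback A.hom At.hom).Modules) (hP : PicF.IsInvertible P)
    (hPξ : AbDual.IsPoincareCl A At φ (PicF.cl P))
    (x : 𝟙_ (Over (Spec (CommRingCat.of k))) ⟶ A)
    [DCoh.HasLpull (pullback.fst A.hom At.hom)] [DCoh.HasLTensorMod P] [DCoh.HasRpush (pullback.snd A.hom At.hom)]
    [DCoh.HasLpull (𝟙 A * (toUnit A ≫ x)).left]
    [DCoh.HasLTensorMod ((Scheme.Modules.pullback (lift (toUnit At ≫ x⁻¹) (𝟙 At)).left).obj P)] :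
    Nonempty (ObjectProperty.ι (DCoh.IsQCohD (X := A.left)) ⋙ DCoh.Lpull (𝟙 A * (toUnit A ≫ x)).left ⋙
        (DCoh.Lpull (pullback.fst A.hom At.hom) ⋙ DCoh.LTensorMod P ⋙ DCoh.Rpush (pullback.snd A.hom At.hom)) ≅
      ObjectProperty.ι (DCoh.IsQCohD (X := A.left)) ⋙ (DCoh.Lpull (pullback.fst A.hom At.hom) ⋙
        DCoh.LTensorMod P ⋙ DCoh.Rpush (pullback.snd A.hom At.hom)) ⋙
        DCoh.LTensorMod ((Scheme.Modules.pullback (lift (toUnit At ≫ x⁻¹) (𝟙 At)).left).obj P)) := by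
  haveI := geometricallyIntegral_of_smooth_group A
  let t : A ⟶ A := 𝟙 A * (toUnit A ≫ x)
  let j := lift (toUnit At ≫ x⁻¹) (𝟙 At)
  let T : A ⊗ At ⟶ A ⊗ At := lift (fst A At ≫ t) (snd A At)
  let T' : A ⊗ At ⟶ A ⊗ At := lift (fst A At ≫ (𝟙 A * (toUnit A ≫ x⁻¹))) (snd A At)
  have hTT' : T ≫ T' = 𝟙 _ := by
    rw [comp_lift, lift_snd, reassoc_of% (lift_fst (fst A At ≫ t) (snd A At)), translate_comp_inv k x,
      Category.comp_id, lift_fst_snd]
  let Tl : pullback A.hom At.hom ⟶ pullback A.hom At.hom := T.left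
  haveI : IsIso Tl := by
    refine ⟨(T'.left : pullback A.hom At.hom ⟶ pullback A.hom At.hom), ?_, ?_⟩
    · show T.left ≫ T'.left = 𝟙 (A ⊗ At).left
      rw [← Over.comp_left, hTT', Over.id_left]
    · show T'.left ≫ T.left = 𝟙 (A ⊗ At).left
      rw [← Over.comp_left, show T' ≫ T = 𝟙 _ from ?_, Over.id_left]
      · have h := translate_comp_inv k x⁻¹
        rw [inv_inv] at h
        rw [comp_lift, lift_snd, reassoc_of% (lift_fst (fst A At ≫ (𝟙 A * (toUnit A ≫ x⁻¹))) (snd A At)), h,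
          Category.comp_id, lift_fst_snd]
  let p := pullback.fst A.hom At.hom
  let q := pullback.snd A.hom At.hom
  have hfst : Tl ≫ p = p ≫ t.left := congrArg Over.Hom.left (lift_fst (fst A At ≫ t) (snd A At))
  have hsnd : Tl ≫ q = q := congrArg Over.Hom.left (lift_snd (fst A At ≫ t) (snd A At))
  haveI := KFlatLib.hasLpull Tl
  haveI := KFlatLib.hasLpull (Tl ≫ p)
  haveI := KFlatLib.hasLpull (p ≫ t.left)
  haveI := KFlatLib.hasLpull (𝟙 At.left)
  obtain ⟨l₁⟩ := KFlatLib.lpull_comp p t.left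
  obtain ⟨l₂⟩ := Dual3Lib.nonempty_lpull_congr_nat hfst.symm
  obtain ⟨l₃⟩ := KFlatLib.lpull_comp Tl p
  have hP' := AmpleDevLib.isInvertible_pb (T'.left : pullback A.hom At.hom ⟶ pullback A.hom At.hom) hP
  have hTP' := AmpleDevLib.isInvertible_pb Tl hP'
  have hc : clA hP = clA hTP' := by
    rw [← pullA_clA _ hP', ← pullA_clA _ hP, pullA_comp]
    show clA hP = pullA (T.left ≫ T'.left) (clA hP)
    rw [← Over.comp_left, hTT', Over.id_left]
    exact (pullA_id _).symm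
  obtain ⟨f⟩ := (clA_eq_iff _ _).1 hc
  obtain ⟨eP⟩ := nonempty_lt_tw hP
  obtain ⟨d⟩ := nonempty_tw_congr hP hTP' f
  obtain ⟨c⟩ := nonempty_tw_lpull Tl hP'
  obtain ⟨b⟩ := DualFMLib.nonempty_whisker (P := DCoh.IsQCohD (X := A.left)) (DCoh.Lpull p ⋙ TW hP')
    (fun M hM => isQCohD_tw hP' (KFlatLib.isQCohD_lpull p M hM))
    (DualFMLib.nonempty_bcNat (f := q) (g := 𝟙 At.left) (f' := q) (g' := Tl)
      (IsPullback.of_horiz_isIso ⟨by rw [hsnd, Category.comp_id]⟩)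
      (Or.inl (MorphismProperty.pullback_snd (P := @Flat) A.hom At.hom inferInstance)))
  obtain ⟨i⟩ := Dual3Lib.nonempty_lpull_id (𝟙 At.left) rfl
  have hN : PicF.IsInvertible ((Scheme.Modules.pullback j.left).obj P) := AmpleDevLib.isInvertible_pb _ hP
  have hqN := AmpleDevLib.isInvertible_pb q hN
  have hc' : clA (HilbPolyLib.isInvertible_tensor hP hqN) = clA hP' := by
    rw [clA_tensor hP hqN, ← pullA_clA _ hN, ← pullA_clA _ hP, ← pullA_clA _ hP, pullA_comp]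
    have h : q ≫ j.left = (lift (toUnit _ ≫ x⁻¹) (snd A At)).left := by
      show (snd A At ≫ j).left = _
      rw [comp_lift, Category.comp_id, ← Category.assoc, comp_toUnit]
    show clA hP + pullA (q ≫ j.left) (clA hP) = cP hP (fst A At ≫ (𝟙 A * (toUnit A ≫ x⁻¹))) (snd A At)
    rw [h, MonObj.comp_mul, Category.comp_id, ← Category.assoc, comp_toUnit, cP_mul_left hP hPξ, cP_id]
    rfl
  obtain ⟨f'⟩ := (clA_eq_iff _ _).1 hc'
  obtain ⟨e⟩ := nonempty_fm_twist p q hP hN hP' f'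
  let ιA := ObjectProperty.ι (DCoh.IsQCohD (X := A.left))
  exact ⟨(Functor.isoWhiskerLeft ιA (Functor.isoWhiskerRight (l₁ ≪≫ l₂ ≪≫ l₃.symm) (DCoh.LTensorMod P ⋙ DCoh.Rpush q)) :
      ιA ⋙ DCoh.Lpull t.left ⋙ (DCoh.Lpull p ⋙ DCoh.LTensorMod P ⋙ DCoh.Rpush q) ≅
        ιA ⋙ DCoh.Lpull p ⋙ DCoh.Lpull Tl ⋙ DCoh.LTensorMod P ⋙ DCoh.Rpush q) ≪≫
    (Functor.isoWhiskerLeft ιA (Functor.isoWhiskerLeft (DCoh.Lpull p) (Functor.isoWhiskerRight
        (Functor.isoWhiskerLeft (DCoh.Lpull Tl) (eP ≪≫ d) ≪≫ c.symm) (DCoh.Rpush q))) :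
      ιA ⋙ DCoh.Lpull p ⋙ DCoh.Lpull Tl ⋙ DCoh.LTensorMod P ⋙ DCoh.Rpush q ≅
        ιA ⋙ (DCoh.Lpull p ⋙ TW hP') ⋙ DCoh.Lpull Tl ⋙ DCoh.Rpush q) ≪≫ b.symm ≪≫
    (Functor.isoWhiskerLeft ιA (Functor.isoWhiskerLeft (DCoh.Lpull p ⋙ TW hP')
        (Functor.isoWhiskerLeft (DCoh.Rpush q) i ≪≫ Functor.rightUnitor _)) :
      ιA ⋙ (DCoh.Lpull p ⋙ TW hP') ⋙ DCoh.Rpush q ⋙ DCoh.Lpull (𝟙 At.left) ≅
        ιA ⋙ DCoh.Lpull p ⋙ TW hP' ⋙ DCoh.Rpush q) ≪≫ e.symm⟩

end Groth.Agent.FMTransLib
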