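import Groth.Agent.FMTransLib.MukaiShift
import Groth.Agent.FMTransLib.Translate
import Groth.Agent.AVIndexLib.KLKernel
import Groth.Agent.AVIndexLib.TopPoinc
import Groth.Agent.DualExistLib.Dual

/-!
# The convolution of a line bundle with the reflection of its inverse
-/

set_option autoImplicit false
set_option linter.style.haveILetI false
set_option backward.isDefEq.respectTransparency false
set_option backward.isDefEq.respectTransparency.types false
set_option maxRecDepth 8000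
set_option maxHeartbeats 1000000
set_option synthInstance.maxHeartbeats 200000

universe u

open CategoryTheory CategoryTheory.Limits MonoidalCategory CartesianMonoidalCategory MonObj AlgebraicGeometry
open CubeConsLib AVAmpleLib AVIndexLib AVThetaLib Groth.Agent.DerLib Groth.Agent.PerfDualLib

attribute [local instance] HasDerivedCategory.standard

namespace Groth.Agent.FMTransLib

variable {k : Type u} [Field k]

/-- The twist by an invertible module commutes with shifts. -/
theorem nonempty_tw_shift {X : Scheme.{u}} {L : X.Modules} (hL : PicF.IsInvertible L) (K : DCoh.D X) (n : ℤ) :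
    Nonempty ((TW hL).obj (K⟦n⟧) ≅ ((TW hL).obj K)⟦n⟧) := by
  haveI := KoszOrthLib.preservesFiniteLimits_tensorRightMod hL
  haveI := KoszOrthLib.preservesFiniteColimits_tensorRightMod hL
  exact ⟨((KoszOrthLib.TD L).commShiftIso n).app K⟩

variable [IsAlgClosed k] (A : Over (Spec (CommRingCat.of k))) [GrpObj A] [IsProper A.hom] [Smooth A.hom]
  [GeometricallyConnected A.hom]

theorem convolution_inv {g : ℕ} (hg : topologicalKrullDim ↥A.left = g)
    {L : A.left.Modules} (hL : PicF.IsInvertible L) {L' : A.left.Modules}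
    (hL' : Nonempty (CohB1.tensorMod L L' ≅ Coh.structureModule A.left))
    {K : Over (Spec (CommRingCat.of k))} (i : K ⟶ A) (hK : ThetaGrp.IsKL A L i) [IsFinite K.hom]
    [DCoh.HasRpush μ[A].left] [DCoh.HasRpush i.left] :
    Nonempty ((DCoh.Rpush μ[A].left).obj
        (DCoh.inD (A ⊗ A).left (CohB1.tensorMod ((Scheme.Modules.pullback (fst A A).left).obj L)
          ((Scheme.Modules.pullback (snd A A ≫ (𝟙 A)⁻¹).left).obj L'))) ≅
      (shiftFunctor (DCoh.D A.left) (-(g : ℤ))).obj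
        ((DCoh.Rpush i.left).obj (DCoh.inD K.left ((Scheme.Modules.pullback i.left).obj L)))) := by
  haveI := geometricallyIntegral_of_smooth_group A
  haveI : LocallyOfFinitePresentation A.hom := LocallyOfFinitePresentation.iff_locallyOfFiniteType.2 inferInstance
  haveI : IsCommMonObj A := isCommMonObj_field
  have hL'inv : PicF.IsInvertible L' := by
    have h1 : cl L * cl L' = 1 := cl_eq_one_iff.2 hL'
    have h2 : cl (MiscFlat6.dual L) = cl L' :=
      left_inv_eq_right_inv ((mul_comm _ _).trans (cl_mul_dual hL)) h1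
    exact HilbPolyLib.isInvertible_of_iso (cl_eq_iff.1 h2).some (MiscFlat6.dual_isInvertible hL)
  have hLL' : clA hL + clA hL'inv = 0 := by
    rw [← clA_tensor hL hL'inv, ← clA_one, clA_eq_iff]
    exact hL'
  -- the dual, and the map of `L`
  obtain ⟨At, _, _, _, φ, P, hP, hφ, hPξ⟩ := DualExistLib.exists_dual A
  haveI : IsReduced At.left := AVDualLib.smooth_reduced At
  haveI : IsReduced A.left := AVDualLib.smooth_reduced A
  haveI : LocallyOfFinitePresentation At.hom := LocallyOfFinitePresentation.iff_locallyOfFiniteType.2 inferInstance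
  obtain ⟨Λ, hΛ, cΛ'⟩ := exists_mumford hL
  have cΛ : (clA hΛ : PicA (A ⊗ A).left) = lam hL (fst A A) (snd A A) := cΛ'
  have hΛ0 := isPicZeroCl_mumford hL cΛ
  let ψ : A ⟶ At := φ A (PicF.cl Λ)
  have hker : AlgGrp.IsKernel i ψ := isKernel_KL hφ hL hK hΛ cΛ
  haveI : IsMonHom ψ := isMonHom_phiL hφ hL hΛ cΛ
  haveI : IsFinite ψ.left := AVThetaLib.isFinite_of_finite_isKernel hker
  haveI : IsIntegral At.left := GeometricallyIntegral.isIntegral_of_subsingleton At.hom
  haveI : Surjective ψ.left := AVAmpleLib.surjective_of_finite_dim ψ.left hg (dim_dual hφ hg)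
  haveI : GeometricallyReduced At.hom := inferInstance
  haveI : Flat ψ.left := AbSchLib.flat_of_surjective ψ
  haveI := hK.closed
  let e : Spec (CommRingCat.of k) ⟶ At.left := (η[At] : 𝟙_ (Over (Spec (CommRingCat.of k))) ⟶ At).left
  haveI : IsClosedImmersion e := isClosedImmersion_eta At
  have H1 : IsPullback K.hom i.left e ψ.left := (IsPullback.map (Over.forget _) hker).flip
  -- the coordinates
  let w : A ⊗ A ⟶ A := fst A A
  let z : A ⊗ A ⟶ A := snd A A
  let σ₀ : A ⊗ A ≅ A ⊗ A :=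
    { hom := lift (z * w) w⁻¹
      inv := lift z⁻¹ (w * z)
      hom_inv_id := by
        apply CartesianMonoidalCategory.hom_ext <;>
          simp [w, z, MonObj.comp_mul, GrpObj.comp_inv]
      inv_hom_id := by
        apply CartesianMonoidalCategory.hom_ext <;>
          simp [w, z, MonObj.comp_mul, GrpObj.comp_inv] }
  let σ : pullback A.hom A.hom ≅ pullback A.hom A.hom := (Over.forget _).mapIso σ₀
  let q : pullback A.hom A.hom ⟶ A.left := pullback.snd A.hom A.hom
  let m : pullback A.hom A.hom ⟶ A.left := (μ[A] : A ⊗ A ⟶ A).left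
  haveI : DCoh.HasRpush m := ‹DCoh.HasRpush μ[A].left›
  haveI := DCohRestrLib.hasRpush q
  haveI := KFlatLib.hasLpull ψ.left
  haveI := KFlatLib.hasLpull K.hom
  haveI := DCohRestrLib.hasRpush e
  haveI := DCohRestrLib.hasRpush (pullback.snd A.hom At.hom)
  let g' : pullback A.hom A.hom ⟶ pullback A.hom At.hom := PicF.XTmap A.hom ψ
  haveI := KFlatLib.hasLpull g'
  have hμ : μ[A] = fst A A * snd A A := by rw [Hom.mul_def, lift_fst_snd, Category.id_comp]
  have hσμ : σ.hom ≫ m = q := by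
    refine congrArg Over.Hom.left (show σ₀.hom ≫ μ[A] = snd A A from ?_)
    rw [hμ, MonObj.comp_mul]
    simp [σ₀, w, z]
  -- the kernel
  let M := CohB1.tensorMod ((Scheme.Modules.pullback (fst A A).left).obj L)
          ((Scheme.Modules.pullback (snd A A ≫ (𝟙 A)⁻¹).left).obj L')
  have k1 := AmpleDevLib.isInvertible_pb (fst A A).left hL
  have k2 := AmpleDevLib.isInvertible_pb (snd A A ≫ (𝟙 A)⁻¹).left hL'inv
  have hM : PicF.IsInvertible M := HilbPolyLib.isInvertible_tensor k1 k2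
  have hgP := AmpleDevLib.isInvertible_pb g' hP
  have kq : PicF.IsInvertible ((Scheme.Modules.pullback q).obj L) := AmpleDevLib.isInvertible_pb q hL
  have egP : clA hgP = clA hΛ := by
    refine eq_of_phi_eq hφ hgP hΛ (isPicZeroCl_XTmap ψ hPξ.1) hΛ0 ?_ ?_ ?_
    · rw [← pullA_clA _ hP, pullA_comp, secT_natural, ← pullA_comp, clA_zero_of_trivialCl _ hP hPξ.2.2, map_zero]
    · have hs : PicF.secT A.hom η[A].left (Over.w η[A]) A = (lift (1 : A ⟶ A) (𝟙 A)).left := by
        apply Limits.pullback.hom_ext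
        · refine (Limits.pullback.lift_fst _ _ _).trans ?_
          refine Eq.trans ?_ (congrArg Over.Hom.left (lift_fst (1 : A ⟶ A) (𝟙 A))).symm
          rw [show (1 : A ⟶ A) = toUnit _ ≫ η from Hom.one_def, Over.comp_left]
          rfl
        · exact (Limits.pullback.lift_snd _ _ _).trans (congrArg Over.Hom.left (lift_snd (1 : A ⟶ A) (𝟙 A))).symm
      rw [hs]
      show pullA (lift (1 : A ⟶ A) (𝟙 A)).left (clA hΛ : PicA (A ⊗ A).left) = 0
      rw [cΛ, pullA_lam, lift_fst, lift_snd, lam_one_left]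
    · refine (hφ.relPic.natural At A ψ _ hPξ.1).trans ?_
      rw [hPξ.2.1, Category.comp_id]
  have hσM := AmpleDevLib.isInvertible_pb σ.hom hM
  have eK : clA hσM = clA (HilbPolyLib.isInvertible_tensor hgP kq) := by
    have e1 : CubeConsLib.P hL'inv (σ₀.hom ≫ snd A A ≫ (𝟙 A)⁻¹) = -CubeConsLib.P hL (σ₀.hom ≫ snd A A ≫ (𝟙 A)⁻¹) := by
      rw [CubeConsLib.P, CubeConsLib.P, ← map_neg, eq_neg_of_add_eq_zero_right hLL']
    rw [← pullA_clA σ.hom hM, clA_tensor k1 k2, clA_tensor hgP kq, egP, cΛ, map_add, ← pullA_clA _ hL,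
      ← pullA_clA _ hL'inv, ← pullA_clA q hL]
    show pullA σ₀.hom.left (CubeConsLib.P hL (fst A A)) +
      pullA σ₀.hom.left (CubeConsLib.P hL'inv (snd A A ≫ (𝟙 A)⁻¹)) = lam hL (fst A A) (snd A A) +
        CubeConsLib.P hL (snd A A)
    rw [pullA_P, pullA_P, e1, show σ₀.hom ≫ fst A A = fst A A * snd A A by simp [σ₀, w, z, _root_.mul_comm],
      show σ₀.hom ≫ snd A A ≫ (𝟙 A)⁻¹ = fst A A by simp [σ₀, w, z, GrpObj.comp_inv], CubeConsLib.lam]
    abel
  obtain ⟨iK⟩ := (clA_eq_iff _ _).1 eK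
  -- the direct image
  obtain ⟨s₁⟩ := nonempty_rpush_iso_inD σ m q hσμ hM
  obtain ⟨t₁⟩ := nonempty_tw_inD kq ((Scheme.Modules.pullback g').obj P)
  obtain ⟨pf⟩ := nonempty_tw_rpush q hL
  have H2 : IsPullback g' q (pullback.snd A.hom At.hom) ψ.left :=
    IsPullback.of_right (by
      rw [show g' ≫ pullback.fst A.hom At.hom = pullback.fst A.hom A.hom from XTmap_fst A.hom ψ,
        show ψ.left ≫ At.hom = A.hom from Over.w ψ]
      exact IsPullback.of_hasPullback A.hom A.hom)
      (XTmap_snd A.hom ψ) (IsPullback.of_hasPullback A.hom At.hom)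
  obtain ⟨b₂⟩ := DualFMLib.nonempty_bcNat H2 (Or.inr inferInstance)
  obtain ⟨b₁⟩ := DualFMLib.nonempty_bcNat H1 (Or.inr inferInstance)
  obtain ⟨tg⟩ := nonempty_lpull_inD g' hP
  obtain ⟨-, -, h, ⟨ie⟩⟩ := poincare_top hφ hP hPξ hg
  obtain ⟨sP⟩ := nonempty_rpush_single (pullback.snd A.hom At.hom) e P g h ie
  obtain ⟨_, -⟩ := DualFMLib.exists_isTriangulated_lpull ψ.left
  obtain ⟨pi⟩ := nonempty_tw_rpush i.left hL
  have ki := AmpleDevLib.isInvertible_pb i.left hL
  obtain ⟨ti⟩ := nonempty_tw_inD ki (Coh.structureModule K.left)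
  let u₀ : DCoh.inD _ (Coh.structureModule (Spec (CommRingCat.of k))) ≅
      DerivedCategory.Q.obj (unitCx (Spec (CommRingCat.of k))) := (FMKLib.oneCxIso _).symm
  obtain ⟨tK⟩ := nonempty_lpull_inD K.hom (isInvertible_one (Spec (CommRingCat.of k)))
  let P₀ : (DCoh.IsQCohD (X := pullback A.hom At.hom)).FullSubcategory := ⟨DCoh.inD _ P, isQCohD_inD_inv hP⟩
  let K₁ : (DCoh.IsQCohD (X := pullback A.hom A.hom)).FullSubcategory := ⟨DCoh.inD _ _, isQCohD_inD_inv hgP⟩
  let k₀ : (DCoh.IsQCohD (X := Spec (CommRingCat.of k))).FullSubcategory :=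
    ⟨_, KFlatLib.isQCohD_iso u₀ (isQCohD_inD_inv (isInvertible_one _))⟩
  let K₂ : (DCoh.IsQCohD (X := K.left)).FullSubcategory :=
    ⟨DCoh.inD K.left (Coh.structureModule K.left), isQCohD_inD_inv (isInvertible_one _)⟩
  let X₀ := (DCoh.Rpush i.left).obj (DCoh.inD K.left (Coh.structureModule K.left))
  obtain ⟨sh⟩ := nonempty_tw_shift hL X₀ (-(g : ℤ))
  let eΛ : (DCoh.Rpush q).obj (DCoh.inD _ ((Scheme.Modules.pullback g').obj P)) ≅ X₀⟦(-(g : ℤ))⟧ :=
    (DCoh.Rpush q).mapIso tg.symm ≪≫ (b₂.app P₀).symm ≪≫ (DCoh.Lpull ψ.left).mapIso sP ≪≫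
      ((DCoh.Lpull ψ.left).commShiftIso (-(g : ℤ))).app _ ≪≫
      (shiftFunctor _ (-(g : ℤ))).mapIso (b₁.app k₀ ≪≫ (DCoh.Rpush i.left).mapIso
        ((DCoh.Lpull K.hom).mapIso u₀.symm ≪≫ tK ≪≫
          (DerivedCategory.singleFunctor _ 0).mapIso (KFlatLib.pullUnitIso K.hom)))
  exact ⟨s₁ ≪≫ (DCoh.Rpush q).mapIso ((DerivedCategory.singleFunctor _ 0).mapIso iK ≪≫ t₁.symm) ≪≫
    (pf.app K₁).symm ≪≫ (TW hL).mapIso eΛ ≪≫ sh ≪≫
    (shiftFunctor _ (-(g : ℤ))).mapIso (pi.app K₂ ≪≫ (DCoh.Rpush i.left).mapIso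
      (ti ≪≫ (DerivedCategory.singleFunctor _ 0).mapIso (HilbPolyLib.unitLeft _)))⟩

end Groth.Agent.FMTransLib
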