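import Groth.Agent.FMTransLib.TDNat
import Groth.Agent.DualFMLib.Nat
import Groth.Agent.DualFMLib.Comp
import Groth.Agent.PerfBaseLib.RpushTor
import Groth.Agent.HilbPolyLib.Twist

/-!
# Fourier–Mukai functors with invertible kernel: pullback and twist
-/

set_option autoImplicit false
set_option linter.style.haveILetI false
set_option backward.isDefEq.respectTransparency false
set_option backward.isDefEq.respectTransparency.types false
set_option maxHeartbeats 1000000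
set_option synthInstance.maxHeartbeats 200000

universe u

open CategoryTheory CategoryTheory.Limits AlgebraicGeometry HomologicalComplex
open Groth.Agent.DerLib Groth.Agent.PerfDualLib Groth.Agent.ProjFormLib

attribute [local instance] HasDerivedCategory.standard

namespace Groth.Agent.FMTransLib

variable {X : Scheme.{u}}

/-- The twist by an invertible module. -/
noncomputable def TW {L : X.Modules} (hL : PicF.IsInvertible L) : DCoh.D X ⥤ DCoh.D X :=
  haveI := KoszOrthLib.preservesFiniteLimits_tensorRightMod hL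
  haveI := KoszOrthLib.preservesFiniteColimits_tensorRightMod hL
  KoszOrthLib.TD L

theorem nonempty_lt_tw {L : X.Modules} (hL : PicF.IsInvertible L) [DCoh.HasLTensorMod L] :
    Nonempty (DCoh.LTensorMod L ≅ TW hL) := by
  haveI := KoszOrthLib.preservesFiniteLimits_tensorRightMod hL
  haveI := KoszOrthLib.preservesFiniteColimits_tensorRightMod hL
  exact KoszOrthLib.nonempty_LTensorMod_iso_TD L

theorem nonempty_tw_congr {L L' : X.Modules} (hL : PicF.IsInvertible L) (hL' : PicF.IsInvertible L')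
    (e : L ≅ L') : Nonempty (TW hL ≅ TW hL') := by
  haveI := KoszOrthLib.preservesFiniteLimits_tensorRightMod hL
  haveI := KoszOrthLib.preservesFiniteColimits_tensorRightMod hL
  haveI := KoszOrthLib.preservesFiniteLimits_tensorRightMod hL'
  haveI := KoszOrthLib.preservesFiniteColimits_tensorRightMod hL'
  exact KoszOrthLib.nonempty_TD_congr e

theorem nonempty_tw_comp {L L' : X.Modules} (hL : PicF.IsInvertible L) (hL' : PicF.IsInvertible L') :
    Nonempty (TW hL ⋙ TW hL' ≅ TW (HilbPolyLib.isInvertible_tensor hL hL')) := by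
  haveI := KoszOrthLib.preservesFiniteLimits_tensorRightMod hL
  haveI := KoszOrthLib.preservesFiniteColimits_tensorRightMod hL
  haveI := KoszOrthLib.preservesFiniteLimits_tensorRightMod hL'
  haveI := KoszOrthLib.preservesFiniteColimits_tensorRightMod hL'
  haveI := KoszOrthLib.preservesFiniteLimits_tensorRightMod (HilbPolyLib.isInvertible_tensor hL hL')
  haveI := KoszOrthLib.preservesFiniteColimits_tensorRightMod (HilbPolyLib.isInvertible_tensor hL hL')
  exact KoszOrthLib.nonempty_TD_comp L L'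

theorem nonempty_tw_lpull {Y : Scheme.{u}} (g : Y ⟶ X) [DCoh.HasLpull g] {L : X.Modules}
    (hL : PicF.IsInvertible L) :
    Nonempty (TW hL ⋙ DCoh.Lpull g ≅ DCoh.Lpull g ⋙ TW (AmpleDevLib.isInvertible_pb g hL)) := by
  haveI := KoszOrthLib.preservesFiniteLimits_tensorRightMod hL
  haveI := KoszOrthLib.preservesFiniteColimits_tensorRightMod hL
  haveI := KoszOrthLib.preservesFiniteLimits_tensorRightMod (AmpleDevLib.isInvertible_pb g hL)
  haveI := KoszOrthLib.preservesFiniteColimits_tensorRightMod (AmpleDevLib.isInvertible_pb g hL)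
  exact nonempty_TD_lpull g hL

theorem isQCohD_tw {L : X.Modules} (hL : PicF.IsInvertible L) {K : DCoh.D X} (hK : DCoh.IsQCohD K) :
    DCoh.IsQCohD ((TW hL).obj K) := by
  haveI := KoszOrthLib.preservesFiniteLimits_tensorRightMod hL
  haveI := KoszOrthLib.preservesFiniteColimits_tensorRightMod hL
  exact KoszOrthLib.isQCohD_TD hL hK

/-- The twist as a derived tensor product with a complex in degree zero. -/
theorem nonempty_tw_ltCx {L : X.Modules} (hL : PicF.IsInvertible L)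
    [DCoh.HasLTensorCx (FMKLib.oneCx L)] : Nonempty (TW hL ≅ DCoh.LTensorCx (FMKLib.oneCx L)) := by
  haveI := KoszOrthLib.preservesFiniteLimits_tensorRightMod hL
  haveI := KoszOrthLib.preservesFiniteColimits_tensorRightMod hL
  refine Dual3Lib.nonempty_iso_of_resP _ _ ?_
  let t : KFlatLib.tensorModCx L ≅ TensorAssocLib.tR (FMKLib.oneCx L) :=
    (NatIso.mapHomologicalComplex (KoszOrthLib.tRNat L) (ComplexShape.up ℤ)).symm ≪≫
      Gen.tRSingleIso (DCoh.tensorBi (X := X)) L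
  let f₁ : DerivedCategory.Q ⋙ KoszOrthLib.TD L ≅ KFlatLib.tensorModCx L ⋙ DerivedCategory.Q :=
    (DCoh.tensorRightMod L).mapDerivedCategoryFactors
  exact Functor.isoWhiskerLeft (KFlatLib.resP X) (f₁ ≪≫ Functor.isoWhiskerRight t DerivedCategory.Q) ≪≫
    (TensorAssocLib.resCnt (FMKLib.oneCx L)).symm

variable {Y Z : Scheme.{u}}

/-- Inverse image of a transform with invertible kernel. -/
theorem nonempty_fm_pull {Y' Z' : Scheme.{u}} (p : Z ⟶ X) (q : Z ⟶ Y) (g : Y' ⟶ Y) (g' : Z' ⟶ Z)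
    (q' : Z' ⟶ Y') (H : IsPullback g' q' q g) [QuasiCompact q] [QuasiSeparated q]
    (hflat : Flat q ∨ Flat g) (p' : Z' ⟶ X) (hp : g' ≫ p = p')
    [DCoh.HasLpull p] [DCoh.HasRpush q] [DCoh.HasLpull g] [DCoh.HasRpush q'] [DCoh.HasLpull p']
    {P : Z.Modules} (hP : PicF.IsInvertible P) [DCoh.HasLTensorMod P] :
    Nonempty ((DCoh.IsQCohD (X := X)).ι ⋙ (DCoh.Lpull p ⋙ DCoh.LTensorMod P ⋙ DCoh.Rpush q) ⋙ DCoh.Lpull g ≅
      (DCoh.IsQCohD (X := X)).ι ⋙ DCoh.Lpull p' ⋙ TW (AmpleDevLib.isInvertible_pb g' hP) ⋙ DCoh.Rpush q') := by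
  haveI := KFlatLib.hasLpull g'
  haveI := KFlatLib.hasLpull (g' ≫ p)
  obtain ⟨e⟩ := nonempty_lt_tw hP
  obtain ⟨b⟩ := DualFMLib.nonempty_whisker (P := DCoh.IsQCohD (X := X)) (DCoh.Lpull p ⋙ TW hP)
    (fun M hM => isQCohD_tw hP (KFlatLib.isQCohD_lpull p M hM)) (DualFMLib.nonempty_bcNat H hflat)
  obtain ⟨t⟩ := nonempty_tw_lpull g' hP
  obtain ⟨c⟩ := KFlatLib.lpull_comp g' p
  obtain ⟨c'⟩ := Dual3Lib.nonempty_lpull_congr_nat hp
  let ι := (DCoh.IsQCohD (X := X)).ι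
  exact ⟨(Functor.isoWhiskerLeft ι (Functor.isoWhiskerLeft (DCoh.Lpull p)
        (Functor.isoWhiskerRight e (DCoh.Rpush q ⋙ DCoh.Lpull g))) :
      ι ⋙ (DCoh.Lpull p ⋙ DCoh.LTensorMod P ⋙ DCoh.Rpush q) ⋙ DCoh.Lpull g ≅
        ι ⋙ (DCoh.Lpull p ⋙ TW hP) ⋙ DCoh.Rpush q ⋙ DCoh.Lpull g) ≪≫ b ≪≫
    (Functor.isoWhiskerLeft ι (Functor.isoWhiskerLeft (DCoh.Lpull p)
        (Functor.isoWhiskerRight t (DCoh.Rpush q'))) :
      ι ⋙ (DCoh.Lpull p ⋙ TW hP) ⋙ DCoh.Lpull g' ⋙ DCoh.Rpush q' ≅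
        ι ⋙ (DCoh.Lpull p ⋙ DCoh.Lpull g') ⋙ TW (AmpleDevLib.isInvertible_pb g' hP) ⋙ DCoh.Rpush q') ≪≫
    Functor.isoWhiskerLeft ι (Functor.isoWhiskerRight (c ≪≫ c') _)⟩

/-- A twist of a transform is the transform with twisted kernel. -/
theorem nonempty_fm_twist (p : Z ⟶ X) (q : Z ⟶ Y) [QuasiCompact q] [QuasiSeparated q]
    [DCoh.HasLpull p] [DCoh.HasRpush q] {P : Z.Modules} (hP : PicF.IsInvertible P) [DCoh.HasLTensorMod P]
    {N : Y.Modules} (hN : PicF.IsInvertible N) [DCoh.HasLTensorMod N]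
    {Q : Z.Modules} (hQ : PicF.IsInvertible Q)
    (eQ : CohB1.tensorMod P ((Scheme.Modules.pullback q).obj N) ≅ Q) :
    Nonempty ((DCoh.IsQCohD (X := X)).ι ⋙ (DCoh.Lpull p ⋙ DCoh.LTensorMod P ⋙ DCoh.Rpush q) ⋙ DCoh.LTensorMod N ≅
      (DCoh.IsQCohD (X := X)).ι ⋙ DCoh.Lpull p ⋙ TW hQ ⋙ DCoh.Rpush q) := by
  let F := FMKLib.oneCx N
  haveI := KFlatLib.hasLTensorCx F
  haveI := KFlatLib.hasLTensorCx ((KFlatLib.pullCx q).obj F)
  let qN := AmpleDevLib.isInvertible_pb q hN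
  haveI := KFlatLib.hasLTensorCx (FMKLib.oneCx ((Scheme.Modules.pullback q).obj N))
  obtain ⟨e⟩ := nonempty_lt_tw hP
  obtain ⟨eN⟩ := nonempty_lt_tw hN
  obtain ⟨fN⟩ := nonempty_tw_ltCx hN
  obtain ⟨fq⟩ := nonempty_tw_ltCx qN
  have hFq : DCoh.IsQCohD (DerivedCategory.Q.obj F) :=
    KFlatLib.isQCohD_iso (FMKLib.oneCxIso N).symm
      (KoszOrthLib.isQCohD_of_isPerfect (KoszOrthLib.isPerfect_inD_invertible hN))
  obtain ⟨g⟩ := ProjFormLib.nonempty_lTensor_congr_iso (M := (KFlatLib.pullCx q).obj F)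
    (N := FMKLib.oneCx ((Scheme.Modules.pullback q).obj N))
    (DerivedCategory.Q.mapIso
      ((singleMapHomologicalComplex (Scheme.Modules.pullback q) (ComplexShape.up ℤ) 0).app N))
  obtain ⟨b⟩ := DualFMLib.nonempty_whisker (P := DCoh.IsQCohD (X := X)) (DCoh.Lpull p ⋙ TW hP)
    (fun M hM => isQCohD_tw hP (KFlatLib.isQCohD_lpull p M hM))
    (DualFMLib.nonempty_projNat q F (isKFlat_oneCx hN) hFq)
  obtain ⟨c⟩ := nonempty_tw_comp hP qN
  obtain ⟨c'⟩ := nonempty_tw_congr (HilbPolyLib.isInvertible_tensor hP qN) hQ eQ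
  let ι := (DCoh.IsQCohD (X := X)).ι
  exact ⟨(Functor.isoWhiskerLeft ι (Functor.isoWhiskerLeft (DCoh.Lpull p)
        (Functor.isoWhiskerRight e (DCoh.Rpush q ⋙ DCoh.LTensorMod N) ≪≫
          Functor.isoWhiskerLeft (TW hP) (Functor.isoWhiskerLeft (DCoh.Rpush q) (eN ≪≫ fN)))) :
      ι ⋙ (DCoh.Lpull p ⋙ DCoh.LTensorMod P ⋙ DCoh.Rpush q) ⋙ DCoh.LTensorMod N ≅
        ι ⋙ (DCoh.Lpull p ⋙ TW hP) ⋙ DCoh.Rpush q ⋙ DCoh.LTensorCx F) ≪≫ b ≪≫
    (Functor.isoWhiskerLeft ι (Functor.isoWhiskerLeft (DCoh.Lpull p)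
        (Functor.isoWhiskerRight (Functor.isoWhiskerLeft (TW hP) (g ≪≫ fq.symm) ≪≫ c ≪≫ c') (DCoh.Rpush q))) :
      ι ⋙ (DCoh.Lpull p ⋙ TW hP) ⋙ DCoh.LTensorCx ((KFlatLib.pullCx q).obj F) ⋙ DCoh.Rpush q ≅
        ι ⋙ DCoh.Lpull p ⋙ TW hQ ⋙ DCoh.Rpush q)⟩

end Groth.Agent.FMTransLib
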