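import Groth.Agent.FMTransLib.MukaiShift
import Groth.Agent.FMTransLib.Translate
import Groth.Agent.AVIndexLib.MumfordEuler
import Groth.Agent.AVIndexLib.LerayShift
import Groth.Agent.SeesawLib.Ranks
import Groth.Agent.CurvLib.StalkSum

/-!
# Euler characteristic and rank of the transform under the index condition
-/

set_option autoImplicit false
set_option linter.style.haveILetI false
set_option backward.isDefEq.respectTransparency false
set_option backward.isDefEq.respectTransparency.types false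
set_option maxRecDepth 8000
set_option maxHeartbeats 1000000
set_option synthInstance.maxHeartbeats 200000

universe u

open CategoryTheory CategoryTheory.Limits MonoidalCategory CartesianMonoidalCategory MonObj AlgebraicGeometry
open CubeConsLib AVIndexLib Groth.Agent.DerLib Groth.Agent.PerfDualLib

attribute [local instance] HasDerivedCategory.standard

namespace Groth.Agent.FMTransLib

theorem isKFlat_oneCx_locFree {X : Scheme.{u}} {L : X.Modules} (hL : FlatMod.IsFinLocFree L) :
    DCoh.IsKFlat ((HomologicalComplex.single X.Modules (ComplexShape.up ℤ) 0).obj L) := by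
  refine KFlatLib.isKFlat_of_bounded_flat_mod _ 0 (fun i hi => ?_) (fun i => ?_)
  · exact HomologicalComplex.isZero_single_obj_X _ _ _ _ (by omega)
  · by_cases h : i = 0
    · subst h
      exact KFlatLib.flat_of_iso (HomologicalComplex.singleObjXSelf (ComplexShape.up ℤ) 0 L).symm
        (KFlatLib.isFlat_of_isFinLocFree hL)
    · exact KFlatLib.flat_of_isZero (HomologicalComplex.isZero_single_obj_X _ _ _ _ h)

/-- A locally free module on a one-point scheme is free. -/
theorem nonempty_iso_freeMod_of_subsingleton {X : Scheme.{u}} [Subsingleton X] [Nonempty X] {M : X.Modules} {n : ℕ}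
    (hM : FlatMod.IsFinLocFreeOfRank n M) : Nonempty (M ≅ FlatMod.freeMod X n) := by
  obtain ⟨x⟩ := (inferInstance : Nonempty X)
  obtain ⟨U, hxU, ⟨e⟩⟩ := hM x
  haveI : Surjective U.ι := ⟨fun y => ⟨⟨x, hxU⟩, Subsingleton.elim _ _⟩⟩
  haveI : IsIso U.ι := (isIso_iff_isOpenImmersion_and_surjective U.ι).2 ⟨inferInstance, inferInstance⟩
  exact ⟨((Scheme.Modules.pullbackId X).app M).symm ≪≫
    (Scheme.Modules.pullbackCongr (IsIso.inv_hom_id U.ι).symm).app M ≪≫
    ((Scheme.Modules.pullbackComp (inv U.ι) U.ι).app M).symm ≪≫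
    (Scheme.Modules.pullback (inv U.ι)).mapIso
      (((Scheme.Modules.restrictFunctorIsoPullback U.ι).app M).symm ≪≫ e) ≪≫ KFlatLib.pullFreeIso _ n⟩

variable {k : Type u} [Field k]

/-- The Euler characteristic of the structure sheaf of a point. -/
theorem euler_point :
    @Curv2.euler k _ (Spec (CommRingCat.of k)) ⟨𝟙 _⟩ (Coh.structureModule (Spec (CommRingCat.of k))) = 1 := by
  let S := Spec (CommRingCat.of k)
  letI : S.Over (Spec (CommRingCat.of k)) := ⟨𝟙 _⟩
  haveI : IsProper (S ↘ Spec (CommRingCat.of k)) := inferInstanceAs (IsProper (𝟙 (Spec (CommRingCat.of k))))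
  have h0 : ∀ n, n ≠ 0 → Subsingleton (Coh.HH S (Coh.structureModule S) n) := fun n hn => by
    haveI : Coh.IsQCoh (Coh.structureModule S) := QCohLib.isQCoh_unit
    exact QCohLib.subsingleton_HH_affine _ n (Nat.pos_of_ne_zero hn)
  rw [euler_of_concentrated (k := k) h0, pow_zero, _root_.one_mul]
  letI := CurvLib.secModule (k := k) (Coh.structureModule S)
  let c : k →+* Γ(S, ⊤) := Coh.toGlobal (S ↘ Spec (CommRingCat.of k))
  have hc : Function.Bijective c := by
    show Function.Bijective ((𝟙 S : S ⟶ S).appTop.hom.comp (Scheme.ΓSpecIso (CommRingCat.of k)).inv.hom)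
    rw [show (𝟙 S : S ⟶ S).appTop = 𝟙 _ from Scheme.Hom.id_app (U := ⊤) (X := S), CommRingCat.hom_id, RingHom.id_comp]
    exact ConcreteCategory.bijective_of_isIso (Scheme.ΓSpecIso (CommRingCat.of k)).inv
  let l : k →ₗ[k] Γ(Coh.structureModule S, ⊤) :=
    { toFun := fun a => c a
      map_add' := fun a b => map_add c a b
      map_smul' := fun a b => map_mul c a b }
  rw [((CurvLib.hhZeroEquiv (k := k) (Coh.structureModule S)).trans (LinearEquiv.ofBijective l hc).symm).finrank_eq,
    Module.finrank_self, Nat.cast_one]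

/-- Euler characteristic when only one direct image to the point is non-zero and it is free. -/
theorem euler_of_rpush_single {X : Scheme.{u}} (a : X ⟶ Spec (CommRingCat.of k)) [IsProper a]
    [HasInjectiveResolutions X.Modules] (F : X.Modules) (i n : ℕ)
    (hz : ∀ p, p ≠ i → IsZero ((Coh.Rpush a p).obj F))
    (e : (Coh.Rpush a i).obj F ≅ FlatMod.freeMod (Spec (CommRingCat.of k)) n) :
    @Curv2.euler k _ X ⟨a⟩ F = (-1 : ℤ) ^ i * (n : ℤ) := by
  let S := Spec (CommRingCat.of k)
  letI : X.Over (Spec (CommRingCat.of k)) := ⟨a⟩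
  haveI : IsProper (X ↘ Spec (CommRingCat.of k)) := ‹IsProper a›
  letI : S.Over (Spec (CommRingCat.of k)) := ⟨𝟙 _⟩
  haveI : IsProper (S ↘ Spec (CommRingCat.of k)) := inferInstanceAs (IsProper (𝟙 (Spec (CommRingCat.of k))))
  obtain ⟨Δ, -⟩ := CohCmpLib.exists_sectCmp a
  have hq : ∀ p, Coh.IsQCoh ((Coh.Rpush a p).obj F) := fun p => by
    by_cases hp : p = i
    · subst hp
      haveI := CurvLib.isQCoh_freeMod (Spec (CommRingCat.of k)) n
      exact QCohLib.isQCoh_of_iso e.symm
    · exact KFlatLib.isQCoh_zero (hz p hp)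
  have hcat : ∀ m, Subsingleton (Coh.HH X F m) ∨ m = i := fun m => by
    by_cases hm : m = i
    · exact Or.inr hm
    · refine Or.inl (subsingleton_HH_antidiagonal a F m fun b c hbc => ?_)
      by_cases hc : c = i
      · subst hc
        haveI := hq c
        exact QCohLib.subsingleton_HH_affine _ b (by omega)
      · exact subsingleton_HH_isZero (hz c hc) b
  rw [euler_of_concentrated (k := k) (i := i) fun m hm => (hcat m).resolve_right hm]
  obtain ⟨el, hel⟩ := exists_leray Δ i F (fun b hb => CohCmpLib.acyOn_of_isZero (hz b hb.ne)) (fun b hb => hz b hb.ne') 0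
  let e₁ : Coh.HH X F (0 + i) ≃ₗ[k] Coh.HH S ((Coh.Rpush a i).obj F) 0 :=
    { el with
      map_smul' := fun c x => by
        refine Eq.trans ?_ (hel (Coh.toGlobal (S ↘ Spec (CommRingCat.of k)) c) x)
        rfl }
  have h1 : Module.finrank k (Coh.HH X F i) = Module.finrank k (Coh.HH S ((Coh.Rpush a i).obj F) 0) := by
    have := e₁.finrank_eq
    rwa [Nat.zero_add] at this
  have h2 : Curv2.euler k S ((Coh.Rpush a i).obj F) = (Module.finrank k (Coh.HH S ((Coh.Rpush a i).obj F) 0) : ℤ) := by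
    rw [euler_of_concentrated (k := k) (i := 0) fun m hm => ?_, pow_zero, _root_.one_mul]
    haveI := hq i
    exact QCohLib.subsingleton_HH_affine _ m (Nat.pos_of_ne_zero hm)
  rw [h1, ← h2, CurvLib.euler_congr (k := k) e, DetDegLib.euler_freeMod k n, euler_point, _root_.mul_one]

variable [IsAlgClosed k] {A At : Over (Spec (CommRingCat.of k))} [GrpObj A] [IsProper A.hom] [Smooth A.hom]
  [GeometricallyConnected A.hom] [GrpObj At] [IsProper At.hom] [Smooth At.hom] [GeometricallyConnected At.hom]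
  {φ : AgPol.DualMap A At}

theorem euler_of_index (hφ : AbDual.IsDualAV Scheme.fppfPrecoverage A At φ)
    {P : (pullback A.hom At.hom).Modules} (hP : PicF.IsInvertible P)
    (hPξ : AbDual.IsPoincareCl A At φ (PicF.cl P))
    [DCoh.HasLpull (pullback.fst A.hom At.hom)] [DCoh.HasLTensorMod P] [DCoh.HasRpush (pullback.snd A.hom At.hom)]
    {F : A.left.Modules} (hF : Coh.IsCoh F) {i n : ℕ}
    (hvan : ∀ j : ℤ, j ≠ (i : ℤ) →
      IsZero (DCoh.HD ((DCoh.Lpull (pullback.fst A.hom At.hom) ⋙ DCoh.LTensorMod P ⋙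
        DCoh.Rpush (pullback.snd A.hom At.hom)).obj (DCoh.inD A.left F)) j))
    (hfree : FlatMod.IsFinLocFreeOfRank n
      (DCoh.HD ((DCoh.Lpull (pullback.fst A.hom At.hom) ⋙ DCoh.LTensorMod P ⋙
        DCoh.Rpush (pullback.snd A.hom At.hom)).obj (DCoh.inD A.left F)) (i : ℤ))) :
    @Curv2.euler k _ A.left ⟨A.hom⟩ F = (-1 : ℤ) ^ i * (n : ℤ) := by
  haveI := geometricallyIntegral_of_smooth_group A
  haveI := geometricallyIntegral_of_smooth_group At
  haveI : LocallyOfFinitePresentation A.hom := LocallyOfFinitePresentation.iff_locallyOfFiniteType.2 inferInstance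
  haveI : LocallyOfFinitePresentation At.hom := LocallyOfFinitePresentation.iff_locallyOfFiniteType.2 inferInstance
  let x : 𝟙_ (Over (Spec (CommRingCat.of k))) ⟶ At := η[At]
  let Φ := (DCoh.Lpull (pullback.fst A.hom At.hom) ⋙ DCoh.LTensorMod P ⋙
        DCoh.Rpush (pullback.snd A.hom At.hom)).obj (DCoh.inD A.left F)
  let G := DCoh.HD Φ (i : ℤ)
  have hFq : DCoh.IsQCohD (DCoh.inD A.left F) := PerfBaseLib.isQCohD_inD F hF.1
  let M := (Scheme.Modules.pullback (lift (𝟙 A) (toUnit A ≫ x)).left).obj P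
  have hM : PicF.IsInvertible M := AmpleDevLib.isInvertible_pb _ hP
  have hM0 : clA hM = 0 := by
    have h := cP_one_right hP hPξ hφ (𝟙 A)
    rw [show (1 : A ⟶ At) = toUnit A ≫ x from Hom.one_def, cP] at h
    exact (pullA_clA (lift (𝟙 A) (toUnit A ≫ x)).left hP).symm.trans h
  rw [← clA_one, clA_eq_iff] at hM0
  obtain ⟨iM⟩ := hM0
  haveI : DCoh.HasLTensorMod M := KFlatLib.hasLTensorMod M
  haveI := DCohRestrLib.hasRpush A.hom
  haveI := KFlatLib.hasLpull x.left
  obtain ⟨ff⟩ := fm_fibre k A At P hP x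
  haveI : Φ.IsGE (i : ℤ) := (DerivedCategory.isGE_iff Φ _).2 fun j hj => hvan j (by omega)
  haveI : Φ.IsLE (i : ℤ) := (DerivedCategory.isLE_iff Φ _).2 fun j hj => hvan j (by omega)
  obtain ⟨es⟩ := DerLib.Devissage.nonempty_iso_single Φ (i : ℤ)
  obtain ⟨t⟩ := nonempty_lt_tw hM
  obtain ⟨t'⟩ := nonempty_tw_inD hM F
  obtain ⟨_, -⟩ := DualFMLib.exists_isTriangulated_lpull x.left
  haveI : Subsingleton (𝟙_ (Over (Spec (CommRingCat.of k)))).left := inferInstanceAs (Subsingleton (PrimeSpectrum k))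
  haveI : Nonempty (𝟙_ (Over (Spec (CommRingCat.of k)))).left := inferInstanceAs (Nonempty (PrimeSpectrum k))
  obtain ⟨eF⟩ := nonempty_iso_freeMod_of_subsingleton (SeesawLib.isFinLocFreeOfRank_pullback x.left hfree)
  let S := Spec (CommRingCat.of k)
  let E₁ : DCoh.inD A.left F ≅ (DCoh.LTensorMod M).obj (DCoh.inD A.left F) :=
    (t.app (DCoh.inD A.left F) ≪≫ t' ≪≫ (DerivedCategory.singleFunctor A.left.Modules 0).mapIso
      (((DCoh.tensorBi (X := A.left)).obj F).mapIso iM ≪≫
        KFlatLib.tensSwap (Coh.structureModule A.left) F ≪≫ KFlatLib.tensUnitIso F)).symm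
  let F₀ : (DCoh.IsQCohD (X := A.left)).FullSubcategory := ⟨DCoh.inD A.left F, hFq⟩
  let E₂ : (DCoh.Rpush A.hom).obj ((DCoh.LTensorMod M).obj (DCoh.inD A.left F)) ≅ (DCoh.Lpull x.left).obj Φ :=
    ff.app F₀
  let E₃ : Φ ≅ ((DerivedCategory.singleFunctor At.left.Modules 0).obj G)⟦(-(i : ℤ))⟧ :=
    es ≪≫ (((DerivedCategory.singleFunctors At.left.Modules).shiftIso (-(i : ℤ)) (i : ℤ) 0 (by omega)).app G).symm
  let E₄ : (DCoh.Lpull x.left).obj ((DerivedCategory.singleFunctor At.left.Modules 0).obj G) ≅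
      (DerivedCategory.singleFunctor S.Modules 0).obj (FlatMod.freeMod S n) :=
    (DCoh.Lpull x.left).mapIso (FMKLib.oneCxIso G).symm ≪≫
      KFlatLib.lpullObjIso x.left _ (isKFlat_oneCx_locFree fun y => by
        obtain ⟨U, hU, he⟩ := hfree y
        exact ⟨U, n, hU, he⟩) ≪≫
      DerivedCategory.Q.mapIso
        ((HomologicalComplex.singleMapHomologicalComplex (Scheme.Modules.pullback x.left) (ComplexShape.up ℤ) 0).app G) ≪≫
      FMKLib.oneCxIso _ ≪≫ (DerivedCategory.singleFunctor _ 0).mapIso eF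
  let E : (DCoh.Rpush A.hom).obj (DCoh.inD A.left F) ≅
      (DerivedCategory.singleFunctor S.Modules (i : ℤ)).obj (FlatMod.freeMod S n) :=
    (DCoh.Rpush A.hom).mapIso E₁ ≪≫ E₂ ≪≫ (DCoh.Lpull x.left).mapIso E₃ ≪≫
    ((DCoh.Lpull x.left).commShiftIso (-(i : ℤ))).app _ ≪≫
    (shiftFunctor (DCoh.D S) (-(i : ℤ))).mapIso E₄ ≪≫
    ((DerivedCategory.singleFunctors S.Modules).shiftIso (-(i : ℤ)) (i : ℤ) 0 (by omega)).app _
  have hH : ∀ p : ℕ, p ≠ i → IsZero ((Coh.Rpush A.hom p).obj F) := fun p hp => by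
    obtain ⟨eH⟩ := KiehlLib.nonempty_HD_rpush_inD A.hom F p
    refine IsZero.of_iso ?_ (eH.symm ≪≫ (DerivedCategory.homologyFunctor S.Modules (p : ℤ)).mapIso E)
    rcases lt_or_gt_of_ne hp with h | h
    · exact DerivedCategory.isZero_of_isGE _ (i : ℤ) _ (by exact_mod_cast h)
    · exact DerivedCategory.isZero_of_isLE _ (i : ℤ) _ (by exact_mod_cast h)
  obtain ⟨eH⟩ := KiehlLib.nonempty_HD_rpush_inD A.hom F i
  exact euler_of_rpush_single A.hom F i n hH
    (eH.symm ≪≫ (DerivedCategory.homologyFunctor S.Modules (i : ℤ)).mapIso E ≪≫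
      (DerivedCategory.singleFunctorCompHomologyFunctorIso S.Modules (i : ℤ)).app _)

end Groth.Agent.FMTransLib
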