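import Groth.Agent.FMTransLib.MukaiShift
import Groth.Agent.FMTransLib.Poinc
import Groth.Agent.KFlatLib.PerfectPull
import Groth.Agent.DualFMLib.Comp

/-!
# The composite of a transform with the transposed one
-/

set_option autoImplicit false
set_option linter.style.haveILetI false
set_option backward.isDefEq.respectTransparency false
set_option backward.isDefEq.respectTransparency.types false
set_option maxRecDepth 8000
set_option maxHeartbeats 1000000
set_option synthInstance.maxHeartbeats 200000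

universe u

open CategoryTheory CategoryTheory.Limits MonoidalCategory CartesianMonoidalCategory MonObj AlgebraicGeometry
open CubeConsLib Groth.Agent.DerLib Groth.Agent.PerfDualLib Groth.Agent.ProjFormLib

attribute [local instance] HasDerivedCategory.standard

namespace Groth.Agent.FMTransLib

variable {k : Type u} [Field k]

/-- The triple product is a fibre product of the two double products over the middle factor. -/
theorem isPullback_triple (B C : Over (Spec (CommRingCat.of k))) :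
    IsPullback (fst (B ⊗ C) B).left (lift (fst (B ⊗ C) B ≫ snd B C) (snd (B ⊗ C) B)).left
      (pullback.snd B.hom C.hom) (pullback.fst C.hom B.hom) := by
  let p23 := lift (fst (B ⊗ C) B ≫ snd B C) (snd (B ⊗ C) B)
  have h1 : p23.left ≫ pullback.snd C.hom B.hom = (snd (B ⊗ C) B).left :=
    congrArg Over.Hom.left (lift_snd (fst (B ⊗ C) B ≫ snd B C) (snd (B ⊗ C) B))
  have h2 : p23.left ≫ pullback.fst C.hom B.hom = (fst (B ⊗ C) B).left ≫ pullback.snd B.hom C.hom :=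
    congrArg Over.Hom.left (lift_fst (fst (B ⊗ C) B ≫ snd B C) (snd (B ⊗ C) B))
  refine (IsPullback.of_right (h₁₂ := pullback.snd C.hom B.hom) (v₁₃ := B.hom) (h₂₂ := C.hom) ?_ h2
    (IsPullback.of_hasPullback C.hom B.hom).flip).flip
  rw [h1, show pullback.snd B.hom C.hom ≫ C.hom = (B ⊗ C).hom from pullback.condition.symm]
  exact (IsPullback.of_hasPullback (B ⊗ C).hom B.hom).flip

variable (B C : Over (Spec (CommRingCat.of k))) [GrpObj B] [IsProper B.hom] [Smooth B.hom]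
  [GeometricallyConnected B.hom]

/-- The anti-diagonal is the preimage of the unit section. -/
theorem isPullback_antidiagonal :
    IsPullback B.hom (lift (𝟙 B) (𝟙 B)⁻¹).left (η[B] : 𝟙_ (Over (Spec (CommRingCat.of k))) ⟶ B).left
      (μ[B] : B ⊗ B ⟶ B).left := by
  let dg := lift (𝟙 B) (𝟙 B)⁻¹
  let σ : B ≅ B := ⟨(𝟙 B)⁻¹, (𝟙 B)⁻¹, by rw [GrpObj.comp_inv, Category.comp_id, inv_inv],
    by rw [GrpObj.comp_inv, Category.comp_id, inv_inv]⟩
  haveI : IsIso ((𝟙 B)⁻¹ : B ⟶ B).left := inferInstanceAs (IsIso ((Over.forget _).mapIso σ).hom)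
  have h1 : dg.left ≫ pullback.snd B.hom B.hom = ((𝟙 B)⁻¹ : B ⟶ B).left :=
    congrArg Over.Hom.left (lift_snd (𝟙 B) (𝟙 B)⁻¹)
  have h2 : η[B].left ≫ B.hom = 𝟙 _ := Over.w η[B]
  have h3 : dg ≫ μ[B] = toUnit B ≫ η[B] := by
    rw [← Hom.one_def, ← Hom.mul_def (f₁ := 𝟙 B) (f₂ := (𝟙 B)⁻¹), mul_inv_cancel]
  refine IsPullback.of_bot (v₂₁ := pullback.snd B.hom B.hom) (v₂₂ := B.hom) (h₃₁ := B.hom) ?_
    (congrArg Over.Hom.left h3).symm (isPullback_mul k B)
  rw [h1, h2]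
  haveI : IsIso (𝟙 (𝟙_ (Over (Spec (CommRingCat.of k)))).left) := IsIso.id _
  exact IsPullback.of_vert_isIso ⟨((Category.comp_id B.hom).trans (Over.w (𝟙 B)⁻¹).symm)⟩

omit [IsProper B.hom] [Smooth B.hom] [GeometricallyConnected B.hom] in
/-- The triple product over the sum of the outer factors. -/
theorem isPullback_sum :
    IsPullback (lift ((fst (B ⊗ C) B ≫ fst B C) * snd (B ⊗ C) B) (fst (B ⊗ C) B ≫ snd B C)).left
      (lift (fst (B ⊗ C) B ≫ fst B C) (snd (B ⊗ C) B)).left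
      (pullback.fst B.hom C.hom) (μ[B] : B ⊗ B ⟶ B).left := by
  let a := fst (B ⊗ C) B ≫ fst B C
  let b := fst (B ⊗ C) B ≫ snd B C
  let c := snd (B ⊗ C) B
  let r := lift (a * c) b
  let s := lift a c
  have h1 : r.left ≫ pullback.snd B.hom C.hom = b.left := congrArg Over.Hom.left (lift_snd (a * c) b)
  have h2 : r ≫ fst B C = s ≫ μ[B] := (lift_fst (a * c) b).trans (Hom.mul_def (f₁ := a) (f₂ := c))
  refine IsPullback.of_right (h₁₂ := pullback.snd B.hom C.hom) (v₁₃ := C.hom) (h₂₂ := B.hom) ?_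
    (congrArg Over.Hom.left h2) (IsPullback.of_hasPullback B.hom C.hom).flip
  rw [h1, show μ[B].left ≫ B.hom = (B ⊗ B).hom from Over.w (μ[B] : B ⊗ B ⟶ B)]
  let e : (B ⊗ C) ⊗ B ≅ C ⊗ (B ⊗ B) :=
    { hom := lift b s
      inv := lift (lift (snd C (B ⊗ B) ≫ fst B B) (fst C (B ⊗ B))) (snd C (B ⊗ B) ≫ snd B B)
      hom_inv_id := by
        apply CartesianMonoidalCategory.hom_ext
        · apply CartesianMonoidalCategory.hom_ext <;> simp [a, b, c, s]
        · simp [a, b, c, s]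
      inv_hom_id := by
        apply CartesianMonoidalCategory.hom_ext
        · simp [a, b, c, s]
        · apply CartesianMonoidalCategory.hom_ext <;> simp [a, b, c, s] }
  exact IsPullback.of_iso_pullback ⟨(Over.w b).trans (Over.w s).symm⟩ ((Over.forget _).mapIso e)
    (congrArg Over.Hom.left (lift_fst b s)) (congrArg Over.Hom.left (lift_snd b s))

variable [IsProper C.hom] [Flat C.hom]

/-- The composite of a transform with a biadditive kernel and the transposed one. -/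
theorem nonempty_swap_comp (Q : (pullback B.hom C.hom).Modules) (hQ : PicF.IsInvertible Q)
    (hadd : ∀ {V : Over (Spec (CommRingCat.of k))} (x y : V ⟶ B) (w : V ⟶ C),
      cP hQ (x * y) w = cP hQ x w + cP hQ y w)
    (g : ℕ) [DCoh.HasRpush (pullback.fst B.hom C.hom)]
    [DCoh.HasRpush (η[B] : 𝟙_ (Over (Spec (CommRingCat.of k))) ⟶ B).left]
    (hD : Nonempty ((DCoh.Rpush (pullback.fst B.hom C.hom)).obj (DCoh.inD _ Q) ≅
      ((DCoh.Rpush (η[B] : 𝟙_ (Over (Spec (CommRingCat.of k))) ⟶ B).left).obj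
        (DerivedCategory.Q.obj (unitCx _)))⟦(-(g : ℤ))⟧))
    [DCoh.HasLpull (pullback.fst B.hom C.hom)] [DCoh.HasLTensorMod Q] [DCoh.HasRpush (pullback.snd B.hom C.hom)]
    [DCoh.HasLpull (pullback.fst C.hom B.hom)]
    [DCoh.HasLTensorMod ((Scheme.Modules.pullback (pullbackSymmetry C.hom B.hom).hom).obj Q)]
    [DCoh.HasRpush (pullback.snd C.hom B.hom)] [DCoh.HasLpull ((𝟙 B)⁻¹).left] :
    Nonempty (ObjectProperty.ι (DCoh.IsQCohD (X := B.left)) ⋙
        (DCoh.Lpull (pullback.fst B.hom C.hom) ⋙ DCoh.LTensorMod Q ⋙ DCoh.Rpush (pullback.snd B.hom C.hom)) ⋙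
        (DCoh.Lpull (pullback.fst C.hom B.hom) ⋙
          DCoh.LTensorMod ((Scheme.Modules.pullback (pullbackSymmetry C.hom B.hom).hom).obj Q) ⋙
          DCoh.Rpush (pullback.snd C.hom B.hom)) ≅
      ObjectProperty.ι (DCoh.IsQCohD (X := B.left)) ⋙ DCoh.Lpull ((𝟙 B)⁻¹).left ⋙
        shiftFunctor (DCoh.D B.left) (-(g : ℤ))) := by
  let Qs := (Scheme.Modules.pullback (pullbackSymmetry C.hom B.hom).hom).obj Q
  have hQs : PicF.IsInvertible Qs := AmpleDevLib.isInvertible_pb (pullbackSymmetry C.hom B.hom).hom hQ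
  let T : Over (Spec (CommRingCat.of k)) := (B ⊗ C) ⊗ B
  let a : T ⟶ B := fst (B ⊗ C) B ≫ fst B C
  let b : T ⟶ C := fst (B ⊗ C) B ≫ snd B C
  let c : T ⟶ B := snd (B ⊗ C) B
  let u : T.left ⟶ pullback B.hom C.hom := (fst (B ⊗ C) B).left
  let v : T.left ⟶ pullback C.hom B.hom := (lift b c).left
  let r : T.left ⟶ pullback B.hom C.hom := (lift (a * c) b).left
  let s : T.left ⟶ pullback B.hom B.hom := (lift a c).left
  let p : pullback B.hom B.hom ⟶ B.left := pullback.fst B.hom B.hom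
  let q : pullback B.hom B.hom ⟶ B.left := pullback.snd B.hom B.hom
  let dg : B.left ⟶ pullback B.hom B.hom := (lift (𝟙 B) (𝟙 B)⁻¹).left
  let m : pullback B.hom B.hom ⟶ B.left := (μ[B] : B ⊗ B ⟶ B).left
  let e : Spec (CommRingCat.of k) ⟶ B.left := (η[B] : 𝟙_ (Over (Spec (CommRingCat.of k))) ⟶ B).left
  have H1 : IsPullback u v (pullback.snd B.hom C.hom) (pullback.fst C.hom B.hom) := isPullback_triple B C
  have H2 : IsPullback r s (pullback.fst B.hom C.hom) m := isPullback_sum B C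
  have H3 : IsPullback B.hom dg e m := isPullback_antidiagonal B
  haveI : IsClosedImmersion (e ≫ B.hom) := by
    rw [show e ≫ B.hom = 𝟙 _ from Over.w η[B]]
    infer_instance
  haveI : IsClosedImmersion e := IsClosedImmersion.of_comp e B.hom
  haveI : QuasiCompact v := MorphismProperty.of_isPullback (P := @QuasiCompact) H1 inferInstance
  haveI : QuasiSeparated v := MorphismProperty.of_isPullback (P := @QuasiSeparated) H1 inferInstance
  haveI : QuasiCompact s := MorphismProperty.of_isPullback (P := @QuasiCompact) H2 inferInstance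
  haveI : QuasiSeparated s := MorphismProperty.of_isPullback (P := @QuasiSeparated) H2 inferInstance
  haveI : IsClosedImmersion dg := MorphismProperty.of_isPullback (P := @IsClosedImmersion) H3 inferInstance
  haveI : Flat m := MorphismProperty.of_isPullback (P := @Flat) (isPullback_mul k B).flip inferInstance
  haveI := KFlatLib.hasLpull u
  haveI := KFlatLib.hasLpull v
  haveI := KFlatLib.hasLpull r
  haveI := KFlatLib.hasLpull s
  haveI := KFlatLib.hasLpull p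
  haveI := KFlatLib.hasLpull q
  haveI := KFlatLib.hasLpull dg
  haveI := KFlatLib.hasLpull m
  haveI := KFlatLib.hasLpull B.hom
  haveI := KFlatLib.hasLpull (pullback.snd C.hom B.hom)
  haveI := KFlatLib.hasLpull a.left
  haveI := KFlatLib.hasLpull c.left
  haveI : DCoh.HasRpush e := ‹DCoh.HasRpush (η[B] : 𝟙_ (Over (Spec (CommRingCat.of k))) ⟶ B).left›
  haveI := DCohRestrLib.hasRpush v
  haveI := DCohRestrLib.hasRpush s
  haveI := DCohRestrLib.hasRpush dg
  haveI := DCohRestrLib.hasRpush q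
  haveI := DCohRestrLib.hasRpush c.left
  let inc := (DCoh.IsQCohD (X := B.left)).ι
  -- kernels
  have ku := AmpleDevLib.isInvertible_pb u hQ
  have kv := AmpleDevLib.isInvertible_pb v hQs
  have kr := AmpleDevLib.isInvertible_pb r hQ
  have hK : clA (HilbPolyLib.isInvertible_tensor ku kv) = clA kr := by
    rw [clA_tensor ku kv, ← pullA_clA u hQ, ← pullA_clA v hQs, ← pullA_clA r hQ,
      ← pullA_clA (pullbackSymmetry C.hom B.hom).hom hQ, pullA_comp]
    refine Eq.trans ?_ (hadd a c b).symm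
    refine congr_arg₂ (· + ·) (congrArg (fun j => pullA j (clA hQ)) ?_) (congrArg (fun j => pullA j (clA hQ)) ?_)
    · exact congrArg Over.Hom.left (show fst (B ⊗ C) B = lift a b by simp [a, b])
    · apply Limits.pullback.hom_ext
      · rw [Category.assoc, pullbackSymmetry_hom_comp_fst]
        exact (congrArg Over.Hom.left (lift_snd b c)).trans (congrArg Over.Hom.left (lift_fst c b)).symm
      · rw [Category.assoc, pullbackSymmetry_hom_comp_snd]
        exact (congrArg Over.Hom.left (lift_fst b c)).trans (congrArg Over.Hom.left (lift_snd c b)).symm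
  obtain ⟨iK⟩ := (clA_eq_iff _ _).1 hK
  -- the first step: on the triple product
  obtain ⟨l₁⟩ := nonempty_lt_tw hQ
  obtain ⟨l₂⟩ := nonempty_lt_tw hQs
  obtain ⟨step₁⟩ := DualFMLib.glue_comp inc (Lp := DCoh.Lpull (pullback.fst B.hom C.hom)) (K := TW hQ)
    (Rq := DCoh.Rpush (pullback.snd B.hom C.hom)) (Lr := DCoh.Lpull (pullback.fst C.hom B.hom)) (M := TW hQs)
    (Rt := DCoh.Rpush (pullback.snd C.hom B.hom)) (Lu := DCoh.Lpull u) (Rv := DCoh.Rpush v)
    (K' := TW ku) (M' := TW kv) (P' := TW kr) (Lup := DCoh.Lpull a.left) (Rvt := DCoh.Rpush c.left)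
    (DualFMLib.nonempty_whisker (P := DCoh.IsQCohD (X := B.left))
      (DCoh.Lpull (pullback.fst B.hom C.hom) ⋙ TW hQ)
      (fun M hM => isQCohD_tw hQ (KFlatLib.isQCohD_lpull _ M hM))
      (DualFMLib.nonempty_bcNat H1 (Or.inl (MorphismProperty.pullback_snd (P := @Flat) B.hom C.hom inferInstance))))
    (DualFMLib.nonempty_whisker (P := DCoh.IsQCohD (X := B.left))
      (DCoh.Lpull (pullback.fst B.hom C.hom) ⋙ TW hQ ⋙ DCoh.Lpull u)
      (fun M hM => KFlatLib.isQCohD_lpull u _ (isQCohD_tw hQ (KFlatLib.isQCohD_lpull _ M hM)))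
      (nonempty_tw_rpush v hQs))
    (nonempty_tw_lpull u hQ)
    (by
      haveI := KFlatLib.hasLpull (u ≫ pullback.fst B.hom C.hom)
      obtain ⟨x⟩ := KFlatLib.lpull_comp u (pullback.fst B.hom C.hom)
      obtain ⟨y⟩ := Dual3Lib.nonempty_lpull_congr_nat (f := u ≫ pullback.fst B.hom C.hom) (f' := a.left) rfl
      exact ⟨x ≪≫ y⟩)
    (by
      haveI := KFlatLib.hasLpull (v ≫ pullback.snd C.hom B.hom)
      haveI := DCohRestrLib.hasRpush (v ≫ pullback.snd C.hom B.hom)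
      obtain ⟨x⟩ := KFlatLib.rpush_comp v (pullback.snd C.hom B.hom)
      obtain ⟨y⟩ := Dual3Lib.nonempty_rpush_congr_nat (f := v ≫ pullback.snd C.hom B.hom) (f' := c.left)
        (congrArg Over.Hom.left (lift_snd b c))
      exact ⟨x ≪≫ y⟩)
    (by
      obtain ⟨x⟩ := nonempty_tw_comp ku kv
      obtain ⟨y⟩ := nonempty_tw_congr (HilbPolyLib.isInvertible_tensor ku kv) kr iK
      exact ⟨x ≪≫ y⟩)
  -- the kernel on the square
  obtain ⟨eD⟩ := hD
  let K := FMKLib.oneCx ((Scheme.Modules.pullback r).obj Q)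
  have hKq : DCoh.IsQCohD (DerivedCategory.Q.obj K) :=
    KFlatLib.isQCohD_iso (FMKLib.oneCxIso _).symm (isQCohD_inD_inv kr)
  haveI := KFlatLib.hasLTensorCx K
  obtain ⟨N₀, -, ⟨eN₀⟩⟩ := DualFMLib.exists_flat_rep ((DCoh.Rpush dg).obj (DerivedCategory.Q.obj (unitCx B.left)))
  haveI := KFlatLib.hasLTensorCx N₀
  haveI := KFlatLib.hasLTensorCx (unitCx B.left)
  obtain ⟨N, -, ⟨eN⟩⟩ := DualFMLib.exists_flat_rep ((DCoh.Rpush s).obj (DerivedCategory.Q.obj K))
  haveI := KFlatLib.hasLTensorCx N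
  let u₀ : DCoh.inD _ (Coh.structureModule (Spec (CommRingCat.of k))) ≅
      DerivedCategory.Q.obj (unitCx (Spec (CommRingCat.of k))) := (FMKLib.oneCxIso _).symm
  have hu₀ : DCoh.IsQCohD (DerivedCategory.Q.obj (unitCx (Spec (CommRingCat.of k)))) :=
    KFlatLib.isQCohD_iso u₀ (isQCohD_inD_inv (isInvertible_one _))
  obtain ⟨tr⟩ := nonempty_lpull_inD r hQ
  obtain ⟨tB⟩ := nonempty_lpull_inD B.hom (isInvertible_one (Spec (CommRingCat.of k)))
  obtain ⟨b₂⟩ := DualFMLib.nonempty_bcNat H2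
    (Or.inl (MorphismProperty.pullback_fst (P := @Flat) B.hom C.hom inferInstance))
  obtain ⟨b₃⟩ := DualFMLib.nonempty_bcNat H3 (Or.inr inferInstance)
  obtain ⟨_, -⟩ := DualFMLib.exists_isTriangulated_lpull m
  let Q₀ : (DCoh.IsQCohD (X := pullback B.hom C.hom)).FullSubcategory := ⟨DCoh.inD _ Q, isQCohD_inD_inv hQ⟩
  let k₀ : (DCoh.IsQCohD (X := Spec (CommRingCat.of k))).FullSubcategory := ⟨_, hu₀⟩
  let eNN : DerivedCategory.Q.obj N ≅ (DerivedCategory.Q.obj N₀)⟦(-(g : ℤ))⟧ :=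
    eN ≪≫ (DCoh.Rpush s).mapIso (FMKLib.oneCxIso _ ≪≫ tr.symm) ≪≫ (b₂.app Q₀).symm ≪≫
      (DCoh.Lpull m).mapIso eD ≪≫ ((DCoh.Lpull m).commShiftIso (-(g : ℤ))).app _ ≪≫
      (shiftFunctor _ (-(g : ℤ))).mapIso (b₃.app k₀ ≪≫
        (DCoh.Rpush dg).mapIso ((DCoh.Lpull B.hom).mapIso u₀.symm ≪≫ tB ≪≫
          (DerivedCategory.singleFunctor _ 0).mapIso (KFlatLib.pullUnitIso B.hom) ≪≫ (FMKLib.oneCxIso _).symm) ≪≫
        eN₀.symm)
  -- the second step: on the square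
  obtain ⟨fK⟩ := nonempty_tw_ltCx kr
  obtain ⟨pK⟩ := DualFMLib.nonempty_projNat₂ s K hKq N eN
  obtain ⟨step₂⟩ := DualFMLib.glue_push inc (Lp := DCoh.Lpull p) (N := DCoh.LTensorCx N) (Rt := DCoh.Rpush q)
    (Lw := DCoh.Lpull s) (P' := TW kr) (Rw := DCoh.Rpush s) (Lwp := DCoh.Lpull a.left)
    (Rwt := DCoh.Rpush c.left)
    (DualFMLib.nonempty_whisker (P := DCoh.IsQCohD (X := B.left)) (DCoh.Lpull p)
      (fun M hM => KFlatLib.isQCohD_lpull _ M hM)
      ⟨pK ≪≫ Functor.isoWhiskerLeft _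
        (Functor.isoWhiskerLeft (DCoh.Lpull s) (Functor.isoWhiskerRight fK.symm (DCoh.Rpush s)))⟩)
    (by
      haveI := KFlatLib.hasLpull (s ≫ p)
      obtain ⟨x⟩ := KFlatLib.lpull_comp s p
      obtain ⟨y⟩ := Dual3Lib.nonempty_lpull_congr_nat (f := s ≫ p) (f' := a.left)
        (congrArg Over.Hom.left (lift_fst a c))
      exact ⟨x ≪≫ y⟩)
    (by
      haveI := KFlatLib.hasLpull (s ≫ q)
      haveI := DCohRestrLib.hasRpush (s ≫ q)
      obtain ⟨x⟩ := KFlatLib.rpush_comp s q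
      obtain ⟨y⟩ := Dual3Lib.nonempty_rpush_congr_nat (f := s ≫ q) (f' := c.left)
        (congrArg Over.Hom.left (lift_snd a c))
      exact ⟨x ≪≫ y⟩)
  -- the third step: the anti-diagonal
  obtain ⟨sh⟩ := nonempty_ltCx_shift N N₀ _ eNN
  have hu : DCoh.IsQCohD (DerivedCategory.Q.obj (unitCx B.left)) :=
    KFlatLib.isQCohD_iso (FMKLib.oneCxIso _).symm (isQCohD_inD_inv (isInvertible_one _))
  obtain ⟨pdg⟩ := DualFMLib.nonempty_projNat₂ dg (unitCx B.left) hu N₀ eN₀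
  obtain ⟨one⟩ := nonempty_ltCx_unit (X := B.left)
  obtain ⟨w⟩ := DualFMLib.nonempty_whisker (P := DCoh.IsQCohD (X := B.left)) (DCoh.Lpull p)
    (fun M hM => KFlatLib.isQCohD_lpull _ M hM)
    ⟨pdg ≪≫ Functor.isoWhiskerLeft _ (Functor.isoWhiskerLeft (DCoh.Lpull dg)
      (Functor.isoWhiskerRight one (DCoh.Rpush dg) ≪≫ Functor.leftUnitor _))⟩
  obtain ⟨_, -⟩ := QRlimLib.exists_isTriangulated_rpush q
  haveI := KFlatLib.hasLpull (dg ≫ p)
  haveI := KFlatLib.hasLpull (dg ≫ q)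
  haveI := DCohRestrLib.hasRpush (dg ≫ q)
  obtain ⟨x⟩ := KFlatLib.lpull_comp dg p
  obtain ⟨x'⟩ := Dual3Lib.nonempty_lpull_id (dg ≫ p) (congrArg Over.Hom.left (lift_fst (𝟙 B) (𝟙 B)⁻¹))
  obtain ⟨y⟩ := KFlatLib.rpush_comp dg q
  let σ : B.left ≅ B.left := (Over.forget _).mapIso
    (⟨(𝟙 B)⁻¹, (𝟙 B)⁻¹, by rw [GrpObj.comp_inv, Category.comp_id, inv_inv],
      by rw [GrpObj.comp_inv, Category.comp_id, inv_inv]⟩ : B ≅ B)
  haveI : DCoh.HasLpull σ.hom := ‹DCoh.HasLpull ((𝟙 B)⁻¹).left›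
  haveI : DCoh.HasLpull σ.inv := ‹DCoh.HasLpull ((𝟙 B)⁻¹).left›
  haveI := DCohRestrLib.hasRpush σ.hom
  obtain ⟨y'⟩ := Dual3Lib.nonempty_rpush_congr_nat (f := dg ≫ q) (f' := σ.hom)
    (congrArg Over.Hom.left (lift_snd (𝟙 B) (𝟙 B)⁻¹))
  obtain ⟨z⟩ := Dual3Lib.nonempty_rpush_iso_lpull σ
  let S := shiftFunctor (DCoh.D (pullback B.hom B.hom)) (-(g : ℤ))
  let S' := shiftFunctor (DCoh.D B.left) (-(g : ℤ))
  exact ⟨(Functor.isoWhiskerLeft inc
      (Functor.isoWhiskerLeft (DCoh.Lpull (pullback.fst B.hom C.hom)) (Functor.isoWhiskerRight l₁ (DCoh.Rpush (pullback.snd B.hom C.hom) ⋙ DCoh.Lpull (pullback.fst C.hom B.hom) ⋙ DCoh.LTensorMod Qs ⋙ DCoh.Rpush (pullback.snd C.hom B.hom))) ≪≫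
        Functor.isoWhiskerLeft (DCoh.Lpull (pullback.fst B.hom C.hom) ⋙ TW hQ ⋙
            DCoh.Rpush (pullback.snd B.hom C.hom) ⋙ DCoh.Lpull (pullback.fst C.hom B.hom))
          (Functor.isoWhiskerRight l₂ (DCoh.Rpush (pullback.snd C.hom B.hom)))) :) ≪≫
    step₁ ≪≫ step₂.symm ≪≫
    (Functor.isoWhiskerLeft inc (Functor.isoWhiskerLeft (DCoh.Lpull p) (Functor.isoWhiskerRight sh (DCoh.Rpush q))) :) ≪≫
    (Functor.isoWhiskerRight w (S ⋙ DCoh.Rpush q) :
      inc ⋙ DCoh.Lpull p ⋙ (DCoh.LTensorCx N₀ ⋙ S) ⋙ DCoh.Rpush q ≅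
        inc ⋙ (DCoh.Lpull p ⋙ DCoh.Lpull dg) ⋙ DCoh.Rpush dg ⋙ (S ⋙ DCoh.Rpush q)) ≪≫
    (Functor.isoWhiskerLeft inc (Functor.isoWhiskerLeft (DCoh.Lpull p ⋙ DCoh.Lpull dg)
        (Functor.isoWhiskerLeft (DCoh.Rpush dg) ((DCoh.Rpush q).commShiftIso (-(g : ℤ))))) :) ≪≫
    (Functor.isoWhiskerLeft inc (Functor.isoWhiskerRight (x ≪≫ x') ((DCoh.Rpush dg ⋙ DCoh.Rpush q) ⋙ S') ≪≫
      Functor.leftUnitor _ ≪≫ Functor.isoWhiskerRight (y ≪≫ y' ≪≫ z) S') :)⟩

end Groth.Agent.FMTransLib
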