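import Groth.Agent.FMTransLib.PullPhi
import Groth.Agent.Dual3Lib.TwistBij
import Groth.Agent.Dual3Lib.DualNat
import Groth.Agent.DualFMLib.FlatHom.Scal
import Groth.Agent.QRlimLib.Unbounded
import Groth.Agent.DerLib.Devissage
import Groth.Agent.KiehlLib.PushFree
import Groth.Agent.PerfBaseLib.SplitSheaf

/-!
# Shifted kernels
-/

set_option autoImplicit false
set_option linter.style.haveILetI false
set_option backward.isDefEq.respectTransparency false
set_option backward.isDefEq.respectTransparency.types false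
set_option maxHeartbeats 1000000
set_option synthInstance.maxHeartbeats 200000

universe u

open CategoryTheory CategoryTheory.Limits AlgebraicGeometry HomologicalComplex
open Groth.Agent.DerLib Groth.Agent.PerfDualLib Groth.Agent.ProjFormLib

attribute [local instance] HasDerivedCategory.standard

namespace Groth.Agent.FMTransLib

variable {X Y : Scheme.{u}}

/-- Tensoring with a shifted complex is tensoring followed by the shift. -/
theorem nonempty_ltCx_shift (N N₀ : Cx X) [DCoh.HasLTensorCx N] [DCoh.HasLTensorCx N₀] (n : ℤ)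
    (e : DerivedCategory.Q.obj N ≅ (DerivedCategory.Q.obj N₀)⟦n⟧) :
    Nonempty (DCoh.LTensorCx N ≅ DCoh.LTensorCx N₀ ⋙ shiftFunctor (DCoh.D X) n) := by
  let U : Cx X := (unitCx X)⟦n⟧
  have hU : DCoh.IsKFlat U :=
    Dual3Lib.isKFlat_shiftN (KFlatLib.isKFlat_of_isStrictlyPerfect (isStrictlyPerfect_unitCx X)) n
  haveI := KFlatLib.hasLTensorCx U
  obtain ⟨x⟩ := Dual3Lib.nonempty_flipShiftUnit n (Iso.refl U)
  let y : DerivedCategory.Q ⋙ DCoh.LTensorCx U ≅ DerivedCategory.Q ⋙ shiftFunctor (DCoh.D X) n :=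
    Dual3Lib.flatCnt' U hU ≪≫ x
  let z : DCoh.LTensorCx U ≅ shiftFunctor (DCoh.D X) n :=
    (Localization.whiskeringLeftFunctor' DerivedCategory.Q
      (HomologicalComplex.quasiIso X.Modules (ComplexShape.up ℤ)) _).preimageIso y
  let E' := ((DCoh.tensorCx (X := X)).obj N₀).obj U
  haveI := KFlatLib.hasLTensorCx E'
  obtain ⟨c⟩ := TensorAssocLib.nonempty_lTensor_comp N₀ U hU
  obtain ⟨d⟩ := nonempty_lTensor_congr_iso (M := N) (N := E')
    (e ≪≫ (y.app N₀).symm ≪≫ (Dual3Lib.flatCnt' U hU).app N₀)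
  exact ⟨d ≪≫ c.symm ≪≫ Functor.isoWhiskerLeft _ z⟩

/-- Tensoring with the unit does nothing. -/
theorem nonempty_ltCx_unit [DCoh.HasLTensorCx (unitCx X)] :
    Nonempty (DCoh.LTensorCx (unitCx X) ≅ 𝟭 (DCoh.D X)) :=
  ⟨Localization.liftNatIso DerivedCategory.Q
    (HomologicalComplex.quasiIso X.Modules (ComplexShape.up ℤ))
    (DerivedCategory.Q ⋙ DCoh.LTensorCx (unitCx X)) (DerivedCategory.Q ⋙ 𝟭 _) _ _
    (Dual3Lib.flatCnt' (unitCx X) (KFlatLib.isKFlat_of_isStrictlyPerfect (isStrictlyPerfect_unitCx X)) ≪≫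
      Functor.isoWhiskerRight unitNat DerivedCategory.Q ≪≫
      Functor.leftUnitor _ ≪≫ (Functor.rightUnitor _).symm)⟩

/-- A direct image with a single cohomology sheaf, supported on a closed subscheme. -/
theorem nonempty_rpush_single {Z : Scheme.{u}} (q : X ⟶ Y) [DCoh.HasRpush q] (e : Z ⟶ Y) [IsClosedImmersion e]
    [DCoh.HasRpush e] [HasInjectiveResolutions X.Modules] (M : X.Modules) (g : ℕ)
    (h : ∀ p, p ≠ g → IsZero ((Coh.Rpush q p).obj M))
    (i : (Coh.Rpush q g).obj M ≅ (Coh.push e).obj (Coh.structureModule Z)) :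
    Nonempty ((DCoh.Rpush q).obj (DCoh.inD X M) ≅
      ((DCoh.Rpush e).obj (DerivedCategory.Q.obj (unitCx Z)))⟦(-(g : ℤ))⟧) := by
  let K := (DCoh.Rpush q).obj (DCoh.inD X M)
  have hz : ∀ j : ℤ, j ≠ (g : ℤ) → IsZero (DCoh.HD K j) := fun j hj => by
    rcases Int.lt_or_le j 0 with h' | h'
    · exact (PerfBaseLib.HD_rpush_inD q M).1 j h'
    · obtain ⟨p, rfl⟩ := Int.eq_ofNat_of_zero_le h'
      obtain ⟨eH⟩ := KiehlLib.nonempty_HD_rpush_inD q M p
      exact (h p fun hp => hj (by rw [hp])).of_iso eH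
  haveI : K.IsGE (g : ℤ) := (DerivedCategory.isGE_iff K _).2 fun j hj => hz j (by omega)
  haveI : K.IsLE (g : ℤ) := (DerivedCategory.isLE_iff K _).2 fun j hj => hz j (by omega)
  obtain ⟨es⟩ := DerLib.Devissage.nonempty_iso_single K (g : ℤ)
  obtain ⟨eH⟩ := KiehlLib.nonempty_HD_rpush_inD q M g
  haveI := BoxSurjLib.isIso_pushQ_closed e (unitCx Z)
  let eu : (DCoh.Rpush e).obj (DerivedCategory.Q.obj (unitCx Z)) ≅
      DCoh.inD Y ((Coh.push e).obj (Coh.structureModule Z)) :=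
    (asIso (Dual3Lib.pushQ e (unitCx Z))).symm ≪≫
      DerivedCategory.Q.mapIso ((HomologicalComplex.singleMapHomologicalComplex (Scheme.Modules.pushforward e)
          (ComplexShape.up ℤ) 0).app (Coh.structureModule Z)) ≪≫
      ((DerivedCategory.singleFunctorIsoCompQ Y.Modules 0).app _).symm
  exact ⟨es ≪≫ (DerivedCategory.singleFunctor Y.Modules (g : ℤ)).mapIso (eH ≪≫ i) ≪≫
    (((DerivedCategory.singleFunctors Y.Modules).shiftIso (-(g : ℤ)) (g : ℤ) 0 (by omega)).app _).symm ≪≫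
    (shiftFunctor _ (-(g : ℤ))).mapIso eu.symm⟩

/-- Direct image after an isomorphism. -/
theorem nonempty_rpush_iso_inD {W : Scheme.{u}} (σ : W ≅ X) (f : X ⟶ Y) (f' : W ⟶ Y) (hf : σ.hom ≫ f = f')
    [DCoh.HasRpush f] [DCoh.HasRpush f'] {M : X.Modules} (hM : PicF.IsInvertible M) :
    Nonempty ((DCoh.Rpush f).obj (DCoh.inD X M) ≅
      (DCoh.Rpush f').obj (DCoh.inD W ((Scheme.Modules.pullback σ.hom).obj M))) := by
  haveI := KFlatLib.hasLpull σ.hom
  haveI := KFlatLib.hasLpull σ.inv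
  haveI := DCohRestrLib.hasRpush σ.hom
  haveI := DCohRestrLib.hasRpush (σ.hom ≫ f)
  haveI := KFlatLib.hasLpull f
  haveI := KFlatLib.hasLpull (σ.hom ≫ f)
  obtain ⟨a⟩ := Dual3Lib.nonempty_rpush_iso_lpull σ
  obtain ⟨b⟩ := Dual3Lib.nonempty_lpull_iso_comp σ
  obtain ⟨c⟩ := KFlatLib.rpush_comp σ.hom f
  obtain ⟨d⟩ := Dual3Lib.nonempty_rpush_congr_nat hf
  obtain ⟨t⟩ := nonempty_lpull_inD σ.hom hM
  exact ⟨(DCoh.Rpush f).mapIso ((b.app _).symm ≪≫ (DCoh.Lpull σ.inv).mapIso t ≪≫ (a.app _).symm) ≪≫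
    (c ≪≫ d).app _⟩

end Groth.Agent.FMTransLib
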