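import Groth.Agent.AVIndexLib.BidualField
import Groth.Agent.FMTransLib.Poinc

/-!
# The direct image of a Poincaré sheaf to the first factor
-/

set_option autoImplicit false
set_option maxHeartbeats 1000000
set_option maxRecDepth 8000
set_option backward.isDefEq.respectTransparency false
set_option linter.style.haveILetI false
set_option linter.unusedSectionVars false

noncomputable section

universe u

open CategoryTheory CategoryTheory.Limits MonoidalCategory CartesianMonoidalCategory MonObj AlgebraicGeometry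
open TopologicalSpace CohCmpLib
open CubeConsLib AVVanishLib AVAmpleLib AVIndexLib

namespace Groth.Agent.FMTransLib

variable {k : Type u} [Field k]

/-- A family over a connected group is algebraically trivial on the fibres once it is trivial over the unit. -/
theorem isPicZeroCl_of_slice {B T' : Over (Spec (CommRingCat.of k))} [GrpObj T'] [IsProper T'.hom]
    [GeometricallyIntegral T'.hom] {Λ : (PicF.XT B.hom T').Modules} (hΛ : PicF.IsInvertible Λ)
    (h : pullA (lift (𝟙 B) (1 : B ⟶ T')).left (clA hΛ) = 0) :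
    AbDual.IsPicZeroCl B.hom T' (PicF.cl Λ) := by
  refine ⟨Λ, rfl, hΛ, fun s Ω _ _ σ _ => ?_⟩
  haveI : IsIntegral T'.left := GeometricallyIntegral.isIntegral_of_subsingleton T'.hom
  let q := PicF.XTproj B.hom T'
  let p := Limits.pullback.fst B.hom T'.hom
  let σ' := σ ≫ T'.hom
  let X := Limits.pullback q σ
  let xs : X ⟶ Spec (CommRingCat.of Ω) := Limits.pullback.snd q σ
  let T := Limits.pullback T'.hom σ'
  let qT : T ⟶ Spec (CommRingCat.of Ω) := Limits.pullback.snd T'.hom σ'
  haveI : GeometricallyIntegral qT := inferInstanceAs (GeometricallyIntegral (Limits.pullback.snd T'.hom σ'))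
  haveI : IsProper qT := MorphismProperty.pullback_snd (P := @IsProper) _ _ ‹_›
  haveI : IsIntegral T := GeometricallyIntegral.isIntegral_of_subsingleton qT
  let η' : Spec (CommRingCat.of k) ⟶ T'.left := (η[T'] : 𝟙_ (Over (Spec (CommRingCat.of k))) ⟶ T').left
  have hη : η' ≫ T'.hom = 𝟙 _ := Over.w η[T']
  let t : Spec (CommRingCat.of Ω) ⟶ T := Limits.pullback.lift σ (𝟙 _) (Category.id_comp _).symm
  let t₀ : Spec (CommRingCat.of Ω) ⟶ T := Limits.pullback.lift (σ' ≫ η') (𝟙 _) (by
    rw [Category.assoc, hη, Category.comp_id, Category.id_comp])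
  let m : Limits.pullback xs qT ⟶ PicF.XT B.hom T' := Limits.pullback.lift
    (Limits.pullback.fst xs qT ≫ Limits.pullback.fst q σ ≫ p)
    (Limits.pullback.snd xs qT ≫ Limits.pullback.fst T'.hom σ') (by
      rw [Category.assoc, Category.assoc, Category.assoc, show p ≫ B.hom = q ≫ T'.hom from Limits.pullback.condition,
        Limits.pullback.condition_assoc (f := q) (g := σ),
        Limits.pullback.condition (f := T'.hom) (g := σ'), Limits.pullback.condition_assoc (f := xs) (g := qT)])
  letI : X.Over (Spec (CommRingCat.of Ω)) := ⟨xs⟩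
  have hM := AmpleDevLib.isInvertible_pb m hΛ
  have hsl : ∀ (a : Spec (CommRingCat.of Ω) ⟶ T) (ha : a ≫ qT = 𝟙 _),
      Pic13.sliceAt Ω X qT a ha ≫ m ≫ p = Limits.pullback.fst q σ ≫ p ∧
      Pic13.sliceAt Ω X qT a ha ≫ m ≫ q = xs ≫ a ≫ Limits.pullback.fst T'.hom σ' := fun a ha => by
    constructor
    · rw [show m ≫ p = _ from Limits.pullback.lift_fst _ _ _, ← Category.assoc]
      exact (congrArg (· ≫ _) (Limits.pullback.lift_fst _ _ _)).trans (Category.id_comp _)
    · rw [show m ≫ q = _ from Limits.pullback.lift_snd _ _ _, ← Category.assoc]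
      exact (congrArg (· ≫ _) (Limits.pullback.lift_snd _ _ _)).trans (Category.assoc _ _ _)
  refine ⟨T, qT, inferInstance, inferInstance, inferInstance, _, hM, t, t₀, Limits.pullback.lift_snd _ _ _,
    Limits.pullback.lift_snd _ _ _, ?_, ?_⟩
  · show Nonempty ((Scheme.Modules.pullback (Pic13.sliceAt Ω X qT t _)).obj _ ≅
      (Scheme.Modules.pullback (Limits.pullback.fst q σ)).obj Λ)
    rw [← clA_eq_iff (AmpleDevLib.isInvertible_pb _ hM) (AmpleDevLib.isInvertible_pb _ hΛ),
      ← pullA_clA _ hM, ← pullA_clA _ hΛ, ← pullA_clA _ hΛ, pullA_comp]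
    refine congrArg (fun g => pullA g (clA hΛ)) (Limits.pullback.hom_ext ?_ ?_)
    · exact (Category.assoc _ _ _).trans (hsl t _).1
    · refine (Category.assoc _ _ _).trans ((hsl t _).2.trans ?_)
      rw [show t ≫ Limits.pullback.fst T'.hom σ' = σ from Limits.pullback.lift_fst _ _ _]
      exact Limits.pullback.condition.symm
  · show Nonempty ((Scheme.Modules.pullback (Pic13.sliceAt Ω X qT t₀ _)).obj _ ≅ Coh.structureModule X)
    rw [← clA_eq_iff (AmpleDevLib.isInvertible_pb _ hM) (isInvertible_one _),
      ← pullA_clA _ hM, ← pullA_clA _ hΛ, pullA_comp, clA_one]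
    let j : B.left ⟶ PicF.XT B.hom T' :=
      (lift (𝟙 B) (1 : B ⟶ T')).left
    have hj1 : j ≫ p = 𝟙 _ := congrArg Over.Hom.left (lift_fst (𝟙 B) _)
    have hj2 : j ≫ q = B.hom ≫ η' := by
      refine (congrArg Over.Hom.left (lift_snd (𝟙 B) _)).trans ?_
      rw [Hom.one_def, Over.comp_left]
      rfl
    have e : Pic13.sliceAt Ω X qT t₀ (Limits.pullback.lift_snd _ _ _) ≫ m = (Limits.pullback.fst q σ ≫ p) ≫ j := by
      refine Limits.pullback.hom_ext ?_ ?_
      · rw [Category.assoc, (hsl t₀ _).1, Category.assoc]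
        exact ((congrArg (_ ≫ ·) hj1).trans (Category.comp_id _)).symm
      · rw [Category.assoc, (hsl t₀ _).2, Category.assoc]
        rw [show t₀ ≫ Limits.pullback.fst T'.hom σ' = σ' ≫ η' from Limits.pullback.lift_fst _ _ _]
        refine Eq.trans ?_ (congrArg ((Limits.pullback.fst q σ ≫ p) ≫ ·) hj2).symm
        rw [Category.assoc (Limits.pullback.fst q σ) p, ← Category.assoc p,
          show p ≫ B.hom = q ≫ T'.hom from Limits.pullback.condition,
          Category.assoc q, ← Category.assoc (Limits.pullback.fst q σ) q, Limits.pullback.condition (f := q) (g := σ)]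
        simp only [σ', Category.assoc]
        rfl
    rw [e, ← pullA_comp]
    exact (congrArg (pullA _) h).trans (map_zero _)


section Point

variable {X S : Scheme.{u}} {f : X ⟶ S} [IsProper f] [Flat f] [LocallyOfFinitePresentation f]
  [GeometricallyIntegral f] [IsLocallyNoetherian X] [IsLocallyNoetherian S] [HasInjectiveResolutions X.Modules]

open IsLocalRing in
/-- The middle direct image does not vanish at a point with trivial fibre. -/
theorem nontrivial_stalk_top {L : X.Modules} (hL : PicF.IsInvertible L) (z : S)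
    (hzc : IsClosed ({z} : Set S)) {g : ℕ}
    (hzero : ∀ p, p ≠ g → IsZero ((Coh.Rpush f p).obj L))
    (hfib : Nonempty (CohIII.fiberMod f L z ≅ Coh.structureModule (f.fiber z))) :
    Nontrivial (((Coh.Rpush f g).obj L).presheaf.stalk z) := by
  have hLc := CurvLib.isCoh_of_isInvertible hL
  haveI : Coh.IsQCoh L := hLc.1
  obtain ⟨hq', hfp, hfl⟩ := CohCmpLib.rank_one_hyps f ((CohCmpLib.invertible_iff_rank_one L).1 hL)
  obtain ⟨W, hW, hz, -⟩ := exists_isAffineOpen_mem_and_subset (x := z) (U := ⊤) trivial
  obtain ⟨K⟩ := exists_chart hfp hfl hW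
  haveI : ∀ p, Coh.IsQCoh ((Coh.Rpush f p).obj L) := fun p => (Groth.Agent.S0036.result f L hLc p).1
  let R : Type u := S.presheaf.stalk z
  letI : Algebra K.A₀ R := stalkAlg K hz
  haveI : IsNoetherianRing R := inferInstanceAs (IsNoetherianRing (S.presheaf.stalk z))
  have E := fun p => stalk_equiv hW K hz p (F := L)
  have hz0 : ∀ p, p ≠ g → Subsingleton (HmB (K.a p) (K.b p) R) := fun p hp => by
    obtain ⟨e⟩ := E p
    haveI := ModuleCat.subsingleton_of_isZero ((DevissLib.St z).map_isZero (hzero p hp))
    exact @Equiv.subsingleton _ _ e.toEquiv (by assumption)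
  have hflR : ∀ p, g < p → K.Fl p R := fl_of_zero K R g fun p hp => hz0 p hp.ne'
  -- the residue field
  letI := K.alg (le_refl W)
  let q := hW.primeIdealOf ⟨z, hz⟩
  haveI : q.asIdeal.IsMaximal := hW.primeIdealOf_isMaximal_of_isClosed ⟨z, hz⟩ hzc
  let κ : Type u := q.asIdeal.ResidueField
  letI : Algebra Γ(S, W) R := (S.presheaf.germ W z hz).hom.toAlgebra
  haveI : IsLocalization.AtPrime R q.asIdeal := hW.isLocalization_stalk ⟨z, hz⟩
  haveI : IsScalarTower K.A₀ Γ(S, W) R := IsScalarTower.of_algebraMap_eq fun x => rfl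
  have hu : ∀ s : q.asIdeal.primeCompl, IsUnit (algebraMap Γ(S, W) κ s) := fun s =>
    isUnit_iff_ne_zero.2 fun h => s.2 ((Ideal.ker_algebraMap_residueField q.asIdeal).le h)
  letI : Algebra R κ := (IsLocalization.lift (S := R) hu).toAlgebra
  haveI : IsScalarTower Γ(S, W) R κ := IsScalarTower.of_algebraMap_eq fun x =>
    (IsLocalization.lift_eq (S := R) hu x).symm
  haveI : IsScalarTower K.A₀ R κ := IsScalarTower.of_algebraMap_eq fun x => by
    rw [IsScalarTower.algebraMap_apply K.A₀ Γ(S, W) R, ← IsScalarTower.algebraMap_apply Γ(S, W) R κ,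
      ← IsScalarTower.algebraMap_apply K.A₀ Γ(S, W) κ]
  have hκ : Function.Surjective (algebraMap R κ) := fun c => by
    obtain ⟨x, rfl⟩ := Ideal.algebraMap_residueField_surjective q.asIdeal c
    exact ⟨algebraMap Γ(S, W) R x, (IsScalarTower.algebraMap_apply Γ(S, W) R κ x).symm⟩
  have hκker : RingHom.ker (algebraMap R κ) = maximalIdeal R :=
    IsLocalRing.eq_maximalIdeal (RingHom.ker_isMaximal_of_surjective _ hκ)
  have h0 : Module.finrank κ (HmB (K.a 0) (K.b 0) κ) = 1 := by
    rw [← (K.fibre_spec hW le_rfl 0 q).1, hW.fromSpec_primeIdealOf]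
    exact fiberRank_eq_one f (fun y => finrank_global_of_geometricallyIntegral (f := f) y) z hfib
  haveI : ∀ p, Module.Finite R (HmB (K.a p) (K.b p) R) := fun p => inferInstance
  obtain ⟨eg⟩ := E g
  refine @Equiv.nontrivial _ _ eg.toEquiv.symm ?_
  by_contra hn
  rw [not_nontrivial_iff_subsingleton] at hn
  have hall : ∀ p, Subsingleton (HmB (K.a p) (K.b p) R) := fun p =>
    if hp : p = g then hp ▸ hn else hz0 p hp
  have h1 := K.bijective_canHm R 0 (fl_of_zero K R 0 (fun p _ => hall p) 1 Nat.one_pos) κ
  haveI := hall 0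
  haveI : Subsingleton (HmB (K.a 0) (K.b 0) κ) :=
    ((towEquiv (K.a 0) (K.b 0)).toEquiv.symm.subsingleton_congr).2
      ((Equiv.ofBijective _ h1).subsingleton_congr.1 inferInstance)
  rw [Module.finrank_zero_of_subsingleton] at h0
  exact zero_ne_one h0

end Point

section Poincare

variable {A At : Over (Spec (CommRingCat.of k))} [GrpObj A] [IsProper A.hom] [GeometricallyIntegral A.hom]
  [GrpObj At] [IsProper At.hom] [GeometricallyIntegral At.hom]
  {φ : AgPol.DualMap A At} (hA : AbDual.IsDualAV Scheme.fppfPrecoverage A At φ)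
  {P : (PicF.XT A.hom At).Modules} (hP : PicF.IsInvertible P)
  (hPξ : AbDual.IsPoincareCl A At φ (PicF.cl P))

include hA hP hPξ in
/-- The direct image of the Poincaré sheaf to the first factor. -/
theorem poincare_fst {g : ℕ} (hg : topologicalKrullDim A.left = (g : ℕ)) :
    let σ : PicF.XT At.hom A ⟶ PicF.XT A.hom At := (pullbackSymmetry At.hom A.hom).hom
    (∀ p, p ≠ g → IsZero ((Coh.Rpush (PicF.XTproj At.hom A) p).obj ((Scheme.Modules.pullback σ).obj P))) ∧
    Nonempty ((Coh.Rpush (PicF.XTproj At.hom A) g).obj ((Scheme.Modules.pullback σ).obj P) ≅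
      (Coh.push (η[A] : 𝟙_ (Over (Spec (CommRingCat.of k))) ⟶ A).left).obj
        (Coh.structureModule (Spec (CommRingCat.of k)))) := by
  intro σ
  let q := PicF.XTproj At.hom A
  let P' := (Scheme.Modules.pullback σ).obj P
  have hP' : PicF.IsInvertible P' := AmpleDevLib.isInvertible_pb σ hP
  let e := (η[A] : 𝟙_ (Over (Spec (CommRingCat.of k))) ⟶ A).left
  have hrig := clA_zero_of_trivialCl _ hP hPξ.2.2
  haveI : IsClosedImmersion e := isClosedImmersion_eta A
  haveI : LocallyOfFinitePresentation A.hom := LocallyOfFinitePresentation.iff_locallyOfFiniteType.2 inferInstance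
  haveI : LocallyOfFinitePresentation At.hom := LocallyOfFinitePresentation.iff_locallyOfFiniteType.2 inferInstance
  haveI : IsProper q := MorphismProperty.pullback_snd (P := @IsProper) At.hom A.hom ‹_›
  haveI : Flat q := MorphismProperty.pullback_snd (P := @Flat) At.hom A.hom inferInstance
  haveI : LocallyOfFinitePresentation q :=
    MorphismProperty.pullback_snd (P := @LocallyOfFinitePresentation) At.hom A.hom inferInstance
  haveI : GeometricallyIntegral q := inferInstanceAs (GeometricallyIntegral (Limits.pullback.snd At.hom A.hom))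
  haveI : IsIntegral A.left := GeometricallyIntegral.isIntegral_of_subsingleton A.hom
  haveI : IsLocallyNoetherian A.left := LocallyOfFiniteType.isLocallyNoetherian A.hom
  haveI : IsLocallyNoetherian (PicF.XT At.hom A) := LocallyOfFiniteType.isLocallyNoetherian q
  have hgt := dim_dual hA hg
  have hslice : pullA (lift (𝟙 At) (1 : At ⟶ A)).left (clA hP') = 0 := by
    rw [← pullA_clA σ hP]
    refine (pullA_comp (lift (𝟙 At) (1 : At ⟶ A)).left σ (clA hP)).trans ?_
    have h := cP_one_left hP hPξ (𝟙 At)
    have hj : (lift (𝟙 At) (1 : At ⟶ A)).left ≫ σ = (lift (1 : At ⟶ A) (𝟙 At)).left := by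
      apply Limits.pullback.hom_ext
      · exact ((Category.assoc _ _ _).trans (congrArg (_ ≫ ·) (pullbackSymmetry_hom_comp_fst _ _))).trans
          ((congrArg Over.Hom.left (lift_snd (𝟙 At) (1 : At ⟶ A))).trans
            (congrArg Over.Hom.left (lift_fst (1 : At ⟶ A) (𝟙 At))).symm)
      · exact ((Category.assoc _ _ _).trans (congrArg (_ ≫ ·) (pullbackSymmetry_hom_comp_snd _ _))).trans
          ((congrArg Over.Hom.left (lift_fst (𝟙 At) (1 : At ⟶ A))).trans
            (congrArg Over.Hom.left (lift_snd (1 : At ⟶ A) (𝟙 At))).symm)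
    rw [hj]
    exact h
  have h0 : AbDual.IsPicZeroCl At.hom A (PicF.cl P') := isPicZeroCl_of_slice hP' hslice
  -- trivial over the unit
  have hunit : pullA (Limits.pullback.fst q e) (clA hP') = 0 := by
    rw [← pullA_clA σ hP, pullA_comp]
    let s := PicF.secT A.hom η[A].left (Over.w η[A]) At
    have hs : Limits.pullback.fst q e ≫ σ =
        (Limits.pullback.fst q e ≫ Limits.pullback.fst At.hom A.hom) ≫ s := by
      have hsk : Limits.pullback.fst q e ≫ q ≫ A.hom = Limits.pullback.snd q e := by
        rw [← Category.assoc, Limits.pullback.condition, Category.assoc,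
          show e ≫ A.hom = 𝟙 _ from Over.w η[A]]
        exact Category.comp_id _
      apply Limits.pullback.hom_ext
      · rw [Category.assoc, Category.assoc, pullbackSymmetry_hom_comp_fst,
          show s ≫ Limits.pullback.fst A.hom At.hom = At.hom ≫ e from Limits.pullback.lift_fst _ _ _,
          show Limits.pullback.fst q e ≫ Limits.pullback.snd At.hom A.hom = Limits.pullback.snd q e ≫ e from
            Limits.pullback.condition, Category.assoc,
          show Limits.pullback.fst At.hom A.hom ≫ At.hom ≫ e = (q ≫ A.hom) ≫ e from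
            (Category.assoc _ _ _).symm.trans (congrArg (· ≫ e) Limits.pullback.condition),
          ← Category.assoc, ← Category.assoc]
        exact congrArg (· ≫ e) (((Category.assoc _ _ _).trans hsk).symm)
      · rw [Category.assoc, Category.assoc, pullbackSymmetry_hom_comp_snd,
          show s ≫ Limits.pullback.snd A.hom At.hom = 𝟙 _ from Limits.pullback.lift_snd _ _ _, Category.assoc,
          Category.comp_id]
    rw [hs, ← pullA_comp, hrig, map_zero]
  rcases Nat.eq_zero_or_pos g with rfl | hgpos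
  · -- a point
    haveI : Subsingleton A.left := AVAmpleLib.subsingleton_of_dim_zero hg
    haveI : IsIntegral At.left := GeometricallyIntegral.isIntegral_of_subsingleton At.hom
    haveI : Subsingleton At.left := AVAmpleLib.subsingleton_of_dim_zero hgt
    haveI hiso : ∀ (B : Over (Spec (CommRingCat.of k))) [GrpObj B] [IsProper B.hom] [Subsingleton B.left]
        [IsReduced B.left], IsIso B.hom := fun B _ _ _ _ => by
      let eB := (η[B] : 𝟙_ (Over (Spec (CommRingCat.of k))) ⟶ B).left
      haveI : IsClosedImmersion eB := isClosedImmersion_eta B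
      haveI : Surjective eB := ⟨fun y => ⟨IsLocalRing.closedPoint k, Subsingleton.elim _ _⟩⟩
      haveI : IsIso eB := isIso_of_isClosedImmersion_of_surjective eB
      haveI : IsIso (eB ≫ B.hom) := by rw [show eB ≫ B.hom = 𝟙 _ from Over.w η[B]]; infer_instance
      exact IsIso.of_isIso_comp_left eB B.hom
    haveI := hiso A
    haveI := hiso At
    haveI : IsIso q := inferInstanceAs (IsIso (Limits.pullback.snd At.hom A.hom))
    haveI : IsIso (e ≫ A.hom) := by rw [show e ≫ A.hom = 𝟙 _ from Over.w η[A]]; infer_instance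
    haveI : IsIso e := IsIso.of_isIso_comp_right e A.hom
    haveI : IsIso (Limits.pullback.fst q e) := inferInstance
    have hP0 : clA hP' = 0 := by
      have := congrArg (pullA (inv (Limits.pullback.fst q e))) hunit
      rwa [pullA_comp, IsIso.inv_hom_id, pullA_id, map_zero] at this
    rw [← clA_one, clA_eq_iff] at hP0
    obtain ⟨eP⟩ := hP0
    obtain ⟨hq', hfp, hfl⟩ := CohCmpLib.rank_one_hyps q ((CohCmpLib.invertible_iff_rank_one P').1 hP')
    haveI := hq'
    refine ⟨fun p hp => CohCmpLib.isZero_rpush_of_fibre hfp hfl p fun y => ?_, ?_⟩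
    · exact subsingleton_fiberH_of_nontrivial hP' h0 hgt y p (Or.inl (Nat.pos_of_ne_zero hp))
    · obtain ⟨eq⟩ := iso_push_structure_of_isIso q
      obtain ⟨ee⟩ := iso_push_structure_of_isIso e
      exact ⟨CohBCLib.rpushZero q P' ≪≫ (Coh.push q).mapIso eP ≪≫ eq ≪≫ ee.symm⟩
  -- positive dimension
  obtain ⟨L, hL, Λ, hΛ, hLa, cΛ⟩ := exists_phiL_data hA
  have hΛ0 := isPicZeroCl_mumford hL cΛ
  let ψ := φ A (PicF.cl Λ)
  haveI := isFinite_phiL hA hL hΛ cΛ hLa
  have hsΛ : pullA (PicF.secT A.hom η[A].left (Over.w η[A]) A) (clA hΛ) = 0 := by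
    have e : PicF.secT A.hom η[A].left (Over.w η[A]) A = (lift (1 : A ⟶ A) (𝟙 A)).left := by
      apply Limits.pullback.hom_ext
      · refine (Limits.pullback.lift_fst _ _ _).trans ?_
        refine Eq.trans ?_ (congrArg Over.Hom.left (lift_fst (1 : A ⟶ A) (𝟙 A))).symm
        rw [Hom.one_def, Over.comp_left]
        rfl
      · exact (Limits.pullback.lift_snd _ _ _).trans (congrArg Over.Hom.left (lift_snd (1 : A ⟶ A) (𝟙 A))).symm
    rw [e]
    show pullA (lift (1 : A ⟶ A) (𝟙 A)).left (clA hΛ : PicA (A ⊗ A).left) = 0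
    rw [cΛ, pullA_lam, lift_fst, lift_snd, lam_one_left]
  have hcmp := clA_eq_pullA_poincare hA hP hPξ hΛ hΛ0 hsΛ
  let o := (η[At] : 𝟙_ (Over (Spec (CommRingCat.of k))) ⟶ At).left (IsLocalRing.closedPoint k)
  haveI : IsClosedImmersion (η[At] : 𝟙_ (Over (Spec (CommRingCat.of k))) ⟶ At).left := isClosedImmersion_eta At
  have hoc : IsClosed ({o} : Set At.left) := by
    have h := (η[At] : 𝟙_ (Over (Spec (CommRingCat.of k))) ⟶ At).left.isClosedEmbedding.isClosedMap _
      (IsLocalRing.isClosed_singleton_closedPoint k)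
    rw [Set.image_singleton] at h
    exact h
  let T : Set A.left := ψ.left ⁻¹' {o}
  have hT : T.Finite := ψ.left.finite_preimage_singleton o
  have hTcl : IsClosed T := hoc.preimage ψ.left.continuous
  haveI : JacobsonSpace A.left := LocallyOfFiniteType.jacobsonSpace A.hom
  have hTc : ∀ z ∈ T, IsClosed ({z} : Set A.left) := by
    have h1 : IsClosed (T ∩ closedPoints A.left) := by
      rw [← Set.biUnion_of_singleton (T ∩ closedPoints A.left)]
      exact (hT.inter_of_left _).isClosed_biUnion fun x hx => mem_closedPoints_iff.1 hx.2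
    intro z hz
    have h2 : z ∈ T ∩ closedPoints A.left := by
      rw [← h1.closure_eq, JacobsonSpace.closure_inter_closedPoints hTcl]
      exact hz
    exact mem_closedPoints_iff.1 h2.2
  have hin : ∀ y : A.left, pullA (Limits.pullback.fst q (A.left.fromSpecResidueField y)) (clA hP') = 0 → y ∈ T := by
    intro y hy
    let v := A.left.fromSpecResidueField y
    let V := AbDual.ovr A v
    let z := AbDual.ovrHom A v
    have h1 := congrArg (pullA (AbDual.bcMap ψ V)) ((pullA_XTmap_eq_zero_iff hP' v).2 hy)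
    rw [map_zero, ← pullA_clA σ hP, pullA_comp, pullA_comp] at h1
    let g := (lift (snd A V ≫ z) (fst A V)).left
    have e : (AbDual.bcMap ψ V ≫ PicF.XTmap At.hom z) ≫ σ = g ≫ PicF.XTmap A.hom ψ := by
      apply Limits.pullback.hom_ext
      · rw [Category.assoc, pullbackSymmetry_hom_comp_fst, Category.assoc, XTmap_snd, ← Category.assoc, bcMap_snd,
          Category.assoc, XTmap_fst]
        exact (congrArg Over.Hom.left (lift_fst (snd A V ≫ z) (fst A V))).symm
      · rw [Category.assoc, pullbackSymmetry_hom_comp_snd, Category.assoc, XTmap_fst, bcMap_fst, Category.assoc,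
          XTmap_snd, ← Category.assoc]
        exact congrArg (· ≫ ψ.left) (congrArg Over.Hom.left (lift_snd (snd A V ≫ z) (fst A V))).symm
    rw [e, ← pullA_comp] at h1
    have h2 : pullA g (clA hΛ : PicA (A ⊗ A).left) = 0 := (congrArg (pullA g) hcmp).trans h1
    rw [cΛ, pullA_lam, lift_fst, lift_snd, lam_comm] at h2
    rw [← pullA_XTmap_mumford hL hΛ cΛ z] at h2
    have h3 := congr($((ovrHom_comp_eq_one_iff_left _ v).1
      (factor_of_trivial hA hΛ hΛ0 v ((pullA_XTmap_eq_zero_iff hΛ v).1 h2)))
        (IsLocalRing.closedPoint (A.left.residueField y)))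
    rw [Scheme.Hom.comp_apply, A.left.fromSpecResidueField_apply, Scheme.Hom.comp_apply] at h3
    show ψ.left y = o
    rw [h3]
    exact congrArg _ (Subsingleton.elim (α := PrimeSpectrum k) _ _)
  have hout : ∀ y p, y ∉ T → Subsingleton (CohIII.fiberH q P' y p) := fun y p hy =>
    subsingleton_fiberH_of_nontrivial hP' h0 hgt y p (Or.inr fun Ω _ τ hτ htriv => hy (hin y (by
      obtain ⟨i⟩ := fibre_trivial_of_point hP' τ (IsLocalRing.closedPoint Ω) htriv
      rw [hτ] at i
      rw [pullA_clA _ hP', ← clA_one, clA_eq_iff]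
      exact ⟨i⟩)))
  obtain ⟨hq', hfp, hfl⟩ := CohCmpLib.rank_one_hyps q ((CohCmpLib.invertible_iff_rank_one P').1 hP')
  haveI := hq'
  have hPc : Coh.IsCoh P' := CurvLib.isCoh_of_isInvertible hP'
  have hsupp : ∀ p, CohB1.support ((Coh.Rpush q p).obj P') ⊆ T := fun p =>
    support_subset_of_isZero_nhds _ fun x hx =>
      CohCmpLib.exists_vanishing_nhd_at hfp hfl p x (hout x p hx)
  have hzero : ∀ p, p ≠ g → IsZero ((Coh.Rpush q p).obj P') := fun p hp => by
    rcases lt_or_gt_of_ne hp with hp | hp
    · exact isZero_rpush_of_finite_support hPc hfp hfl hT hTc hsupp g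
        (fun z hz => exists_regular_seq hg z (hTc z hz)) p hp
    · exact CohCmpLib.isZero_rpush_of_fibre hfp hfl p fun y =>
        subsingleton_fiberH_of_nontrivial hP' h0 hgt y p (Or.inl hp)
  refine ⟨hzero, ?_⟩
  let M := (Coh.Rpush q g).obj P'
  haveI := (Groth.Agent.S0036.result q P' hPc g).1
  letI : A.left.Over (Spec (CommRingCat.of k)) := ⟨A.hom⟩
  haveI : IsProper (A.left ↘ Spec (CommRingCat.of k)) := ‹IsProper A.hom›
  haveI := CurvLib.isNoetherian k (X := A.left)
  letI : (PicF.XT At.hom A).Over (Spec (CommRingCat.of k)) := ⟨q ≫ A.hom⟩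
  -- the cohomology in the middle degree is a line
  have hvan : ∀ n, n ≠ g → Subsingleton (Coh.HH (PicF.XT At.hom A) P' n) := fun n hn =>
    subsingleton_HH_antidiagonal q P' n fun a b hab => by
      rcases Nat.eq_zero_or_pos a with rfl | ha
      · exact subsingleton_HH_isZero (hzero b (by omega)) 0
      · exact CurvLib.subsingleton_HH_of_support _ hTcl (hsupp b) (d := 0)
          (by exact_mod_cast topologicalKrullDim_le_zero_of_finite hT hTc) a ha
  have hdim : Module.finrank k (Coh.HH (PicF.XT At.hom A) P' g) = 1 := by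
    haveI : IsProper (A ⊗ At).hom := inferInstanceAs (IsProper (Limits.pullback.fst A.hom At.hom ≫ A.hom))
    haveI : IsProper (At ⊗ A).hom := inferInstanceAs (IsProper (Limits.pullback.fst At.hom A.hom ≫ At.hom))
    haveI : GeometricallyIntegral (A ⊗ At).hom := CubeConsLib.geometricallyIntegral_prod A.hom At.hom
    haveI : GeometricallyIntegral (At ⊗ A).hom := CubeConsLib.geometricallyIntegral_prod At.hom A.hom
    haveI : IsLocallyNoetherian (A ⊗ At).left := LocallyOfFiniteType.isLocallyNoetherian (A ⊗ At).hom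
    haveI : IsLocallyNoetherian (At ⊗ A).left := LocallyOfFiniteType.isLocallyNoetherian (At ⊗ A).hom
    haveI : HasInjectiveResolutions (PicF.XT A.hom At).Modules :=
      inferInstanceAs (HasInjectiveResolutions (A ⊗ At).left.Modules)
    obtain ⟨hw, hw1, -, -⟩ := poincare_top hA hP hPξ hg
    let β : At ⊗ A ⟶ A ⊗ At := (β_ At A).hom
    haveI : IsIso β.left := inferInstanceAs (IsIso ((Over.forget _).map β))
    have hχ := AVRRLib.euler_pullback β 1 (fun y => by rw [Scheme.Hom.finrank_eq_one_of_isIso]; rfl)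
      (F := (show (A ⊗ At).left.Modules from P)) (CurvLib.isCoh_of_isInvertible hP)
    letI : (A ⊗ At).left.Over (Spec (CommRingCat.of k)) := ⟨(A ⊗ At).hom⟩
    letI : (At ⊗ A).left.Over (Spec (CommRingCat.of k)) := ⟨(At ⊗ A).hom⟩
    haveI : IsProper ((A ⊗ At).left ↘ Spec (CommRingCat.of k)) := inferInstanceAs (IsProper (A ⊗ At).hom)
    haveI : IsProper ((At ⊗ A).left ↘ Spec (CommRingCat.of k)) := inferInstanceAs (IsProper (At ⊗ A).hom)
    have e1 : Curv2.euler k (At ⊗ A).left ((Scheme.Modules.pullback β.left).obj P) =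
        (-1 : ℤ) ^ g * (Module.finrank k (Coh.HH (PicF.XT At.hom A) P' g) : ℤ) := by
      refine (euler_of_concentrated (k := k) (X := (At ⊗ A).left) hvan).trans ?_
      congr 3
      exact congrArg (fun h => @Coh.moduleOver k _ (At ⊗ A).left ⟨h⟩ P' g) (Over.w (snd At A)).symm
    have e2 : Curv2.euler k (A ⊗ At).left P = (-1 : ℤ) ^ g * ((1 : ℕ) : ℤ) := by
      refine (euler_of_concentrated (k := k) (X := (A ⊗ At).left) hw).trans ?_
      rw [← hw1]
      rfl
    rw [e1, e2, Nat.cast_one, _root_.one_mul, _root_.mul_one] at hχ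
    have hu : (-1 : ℤ) ^ g ≠ 0 := pow_ne_zero g (by norm_num)
    exact_mod_cast (mul_eq_left₀ hu).1 hχ
  obtain ⟨Δ, -⟩ := CohCmpLib.exists_sectCmp q
  have hl := exists_leray Δ g P' (fun p hp => acyOn_of_isZero (hzero p hp.ne)) (fun p hp => hzero p hp.ne') 0
  rw [Nat.zero_add] at hl
  obtain ⟨el, hel⟩ := hl
  let e₁ : Coh.HH (PicF.XT At.hom A) P' g ≃ₗ[k] Coh.HH A.left M 0 :=
    { el with
      map_smul' := fun c x => by
        refine Eq.trans ?_ (hel (Coh.toGlobal (A.left ↘ Spec (CommRingCat.of k)) c) x)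
        rfl }
  letI := CurvLib.secModule (k := k) M
  letI := fun z : T => CurvLib.stalkModule (k := k) M z.1
  have hpi : Module.finrank k (∀ z : T, (DevissLib.St z.1).obj M) = 1 :=
    ((e₁.trans (CurvLib.hhZeroEquiv (k := k) M)).trans
      (CurvLib.secStalksEquiv (k := k) M hT hTc (hsupp g))).finrank_eq.symm.trans hdim
  haveI : Fintype T := hT.fintype
  haveI : Module.Finite k (∀ z : T, (DevissLib.St z.1).obj M) := Module.finite_of_finrank_eq_succ hpi
  haveI : ∀ z : T, Module.Finite k ((DevissLib.St z.1).obj M) := fun z =>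
    Module.Finite.of_surjective (LinearMap.proj (R := k) (φ := fun z : T => (DevissLib.St z.1).obj M) z)
      (Function.surjective_eval z)
  rw [Module.finrank_pi_fintype] at hpi
  -- the point
  let w := IsLocalRing.closedPoint k
  let o' := e w
  have hfib : Nonempty (CohIII.fiberMod q P' o' ≅ Coh.structureModule (q.fiber o')) :=
    fibre_trivial_of_point hP' e w hunit
  have hoT : o' ∈ T := hin o' (by
    obtain ⟨i⟩ := hfib
    rw [pullA_clA _ hP', ← clA_one, clA_eq_iff]
    exact ⟨i⟩)
  haveI hnt : Nontrivial ((DevissLib.St o').obj M) := nontrivial_stalk_top hP' o' (hTc o' hoT) hzero hfib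
  classical
  letI := CurvLib.stalkModule (k := k) M o'
  haveI : Module.Finite k ((DevissLib.St o').obj M) :=
    (inferInstance : Module.Finite k ((DevissLib.St (⟨o', hoT⟩ : T).1).obj M))
  have hne : 0 < Module.finrank k ((DevissLib.St o').obj M) :=
    Module.finrank_pos (R := k) (M := (DevissLib.St (⟨o', hoT⟩ : T).1).obj M)
  have hsplit := Finset.add_sum_erase Finset.univ (fun z : T => Module.finrank k ((DevissLib.St z.1).obj M))
    (Finset.mem_univ ⟨o', hoT⟩)
  have hone : Module.finrank k ((DevissLib.St o').obj M) = 1 := by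
    simp only at hsplit
    omega
  have hs : CohB1.support M ⊆ Set.range e := fun x hx => by
    by_contra hxe
    have hxT : x ∈ T := hsupp g hx
    letI := CurvLib.stalkModule (k := k) M x
    have hx0 : Module.finrank k ((DevissLib.St x).obj M) = 0 := by
      have h1 := Finset.single_le_sum (f := fun z : T => Module.finrank k ((DevissLib.St z.1).obj M))
        (fun _ _ => Nat.zero_le _)
        (Finset.mem_erase.2 ⟨fun h : (⟨x, hxT⟩ : T) = ⟨o', hoT⟩ => hxe ⟨w, (congrArg Subtype.val h).symm⟩,
          Finset.mem_univ (⟨x, hxT⟩ : T)⟩)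
      simp only at h1 hsplit
      omega
    haveI : Module.Finite k ((DevissLib.St x).obj M) := (inferInstance : Module.Finite k ((DevissLib.St (⟨x, hxT⟩ : T).1).obj M))
    have h0' : Subsingleton ((DevissLib.St x).obj M) := Module.finrank_zero_iff.1 hx0
    exact hx h0'
  -- the stalk
  let R := A.left.presheaf.stalk o'
  let sk : k →+* R := Curv2.stalkMap k A.left o'
  obtain ⟨m, hm⟩ := exists_ne (0 : (DevissLib.St o').obj M)
  have hspan : ∀ x : (DevissLib.St o').obj M, ∃ c : k, sk c • m = x := fun x => by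
    obtain ⟨c, hc⟩ := exists_smul_eq_of_finrank_eq_one hone hm x
    exact ⟨c, hc⟩
  let φm : R →ₗ[R] (DevissLib.St o').obj M := LinearMap.toSpanSingleton R _ m
  have hφs : Function.Surjective φm := fun x => by
    obtain ⟨c, hc⟩ := hspan x
    exact ⟨sk c, hc⟩
  have hker : LinearMap.ker φm = RingHom.ker (e.stalkMap w).hom := by
    have h1 : LinearMap.ker φm = IsLocalRing.maximalIdeal R := by
      refine le_antisymm (IsLocalRing.le_maximalIdeal fun h => hm ?_) fun r hr => ?_
      · have h2 : (1 : R) ∈ LinearMap.ker φm := by rw [h]; trivial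
        simpa [φm] using h2
      · obtain ⟨c, hc⟩ := hspan (r • m)
        rcases eq_or_ne c 0 with rfl | hc0
        · rw [map_zero, zero_smul] at hc
          exact hc.symm
        · exfalso
          have hu : IsUnit (sk c - r) := by
            by_contra hu
            have h3 := (IsLocalRing.maximalIdeal R).add_mem hu hr
            rw [sub_add_cancel] at h3
            exact h3 ((isUnit_iff_ne_zero.2 hc0).map sk)
          exact hm (hu.smul_eq_zero.1 (by rw [sub_smul, hc, sub_self]))
    have h2 : IsField ((Spec (CommRingCat.of k)).presheaf.stalk w) := by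
      have h3 := IsLocalization.atUnits k w.asIdeal.primeCompl
        (S := (Spec.structureSheaf k).presheaf.stalk w) fun x hx =>
          isUnit_iff_ne_zero.2 fun h => hx (by rw [h]; exact zero_mem _)
      exact h3.toMulEquiv.symm.isField (Field.toIsField k)
    refine h1.trans (le_antisymm (fun r hr => ?_) (IsLocalRing.le_maximalIdeal (RingHom.ker_ne_top _)))
    rw [RingHom.mem_ker]
    by_contra hne'
    obtain ⟨y, hy⟩ := h2.mul_inv_cancel hne'
    exact hr (isUnit_of_map_unit (e.stalkMap w).hom r (IsUnit.of_mul_eq_one y hy))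
  haveI : Subsingleton (𝟙_ (Over (Spec (CommRingCat.of k)))).left := inferInstanceAs (Subsingleton (PrimeSpectrum k))
  exact exists_iso_push_structure e M hs w
    ⟨(LinearMap.quotKerEquivOfSurjective φm hφs).symm.trans (Submodule.quotEquivOfEq _ _ hker)⟩

end Poincare

end Groth.Agent.FMTransLib
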