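import Groth.Agent.FMTransLib.MukaiInv
import Groth.Agent.FMTransLib.PoincSwap
import Groth.Agent.AVAmpleLib.TateLattice

/-!
# Mukai's inversion theorem
-/

set_option autoImplicit false
set_option linter.style.haveILetI false
set_option backward.isDefEq.respectTransparency false
set_option backward.isDefEq.respectTransparency.types false
set_option maxRecDepth 8000
set_option maxHeartbeats 1000000
set_option synthInstance.maxHeartbeats 200000

universe u

open CategoryTheory CategoryTheory.Limits MonoidalCategory CartesianMonoidalCategory MonObj AlgebraicGeometry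
open CubeConsLib AVAmpleLib AVIndexLib Groth.Agent.DerLib Groth.Agent.PerfDualLib

attribute [local instance] HasDerivedCategory.standard

namespace Groth.Agent.FMTransLib

/-- The inverse of a group object's points, as an automorphism. -/
theorem nonempty_lpull_inv_inv {S : Scheme.{u}} (B : Over S) [GrpObj B] [DCoh.HasLpull ((𝟙 B)⁻¹).left] :
    Nonempty (DCoh.Lpull ((𝟙 B)⁻¹).left ⋙ DCoh.Lpull ((𝟙 B)⁻¹).left ≅ 𝟭 (DCoh.D B.left)) := by
  let σ : B.left ≅ B.left := (Over.forget _).mapIso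
    (⟨(𝟙 B)⁻¹, (𝟙 B)⁻¹, by rw [GrpObj.comp_inv, Category.comp_id, inv_inv],
      by rw [GrpObj.comp_inv, Category.comp_id, inv_inv]⟩ : B ≅ B)
  haveI : DCoh.HasLpull σ.hom := ‹DCoh.HasLpull ((𝟙 B)⁻¹).left›
  haveI : DCoh.HasLpull σ.inv := ‹DCoh.HasLpull ((𝟙 B)⁻¹).left›
  exact Dual3Lib.nonempty_lpull_iso_comp σ

variable {k : Type u} [Field k]
  {A At : Over (Spec (CommRingCat.of k))} [GrpObj A] [IsProper A.hom] [Smooth A.hom] [GeometricallyConnected A.hom]
  [GrpObj At] [IsProper At.hom] [Smooth At.hom] [GeometricallyConnected At.hom]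
  {φ : AgPol.DualMap A At}
  (hφ : AbDual.IsDualAV Scheme.fppfPrecoverage A At φ)
  {P : (pullback A.hom At.hom).Modules} (hP : PicF.IsInvertible P)
  (hPξ : AbDual.IsPoincareCl A At φ (PicF.cl P))

include hφ hP hPξ in
/-- The transform back and forth on `A`. -/
theorem nonempty_mukai {g : ℕ} (hg : topologicalKrullDim ↥A.left = g)
    [DCoh.HasLpull (pullback.fst A.hom At.hom)] [DCoh.HasLTensorMod P] [DCoh.HasRpush (pullback.snd A.hom At.hom)]
    [DCoh.HasLpull (pullback.fst At.hom A.hom)]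
    [DCoh.HasLTensorMod ((Scheme.Modules.pullback (pullbackSymmetry At.hom A.hom).hom).obj P)]
    [DCoh.HasRpush (pullback.snd At.hom A.hom)] [DCoh.HasLpull ((𝟙 A)⁻¹).left] :
    Nonempty (ObjectProperty.ι (DCoh.IsQCohD (X := A.left)) ⋙ (DCoh.Lpull (pullback.fst A.hom At.hom) ⋙ DCoh.LTensorMod P ⋙ DCoh.Rpush (pullback.snd A.hom At.hom)) ⋙
        (DCoh.Lpull (pullback.fst At.hom A.hom) ⋙
          DCoh.LTensorMod ((Scheme.Modules.pullback (pullbackSymmetry At.hom A.hom).hom).obj P) ⋙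
          DCoh.Rpush (pullback.snd At.hom A.hom)) ≅
      ObjectProperty.ι (DCoh.IsQCohD (X := A.left)) ⋙ DCoh.Lpull ((𝟙 A)⁻¹).left ⋙
        shiftFunctor (DCoh.D A.left) (-(g : ℤ))) := by
  haveI := geometricallyIntegral_of_smooth_group A
  haveI := geometricallyIntegral_of_smooth_group At
  let e := (η[A] : 𝟙_ (Over (Spec (CommRingCat.of k))) ⟶ A).left
  haveI : IsClosedImmersion e := isClosedImmersion_eta A
  haveI := DCohRestrLib.hasRpush (pullback.fst A.hom At.hom)
  haveI := DCohRestrLib.hasRpush e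
  obtain ⟨a⟩ := nonempty_rpush_iso_inD (pullbackSymmetry At.hom A.hom) (pullback.fst A.hom At.hom)
    (pullback.snd At.hom A.hom) (pullbackSymmetry_hom_comp_fst _ _) hP
  obtain ⟨h, ⟨i⟩⟩ := poincare_fst hφ hP hPξ hg
  obtain ⟨b⟩ := nonempty_rpush_single (pullback.snd At.hom A.hom) e _ g h i
  exact nonempty_swap_comp A At P hP (fun x y w => cP_mul_left hP hPξ x y w) g ⟨a ≪≫ b⟩

include hφ hP hPξ in
/-- The transform back and forth on the dual. -/
theorem nonempty_mukai_dual {g : ℕ} (hg : topologicalKrullDim ↥A.left = g)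
    [DCoh.HasLpull (pullback.fst A.hom At.hom)] [DCoh.HasLTensorMod P] [DCoh.HasRpush (pullback.snd A.hom At.hom)]
    [DCoh.HasLpull (pullback.fst At.hom A.hom)]
    [DCoh.HasLTensorMod ((Scheme.Modules.pullback (pullbackSymmetry At.hom A.hom).hom).obj P)]
    [DCoh.HasRpush (pullback.snd At.hom A.hom)] [DCoh.HasLpull ((𝟙 At)⁻¹).left] :
    Nonempty (ObjectProperty.ι (DCoh.IsQCohD (X := At.left)) ⋙ (DCoh.Lpull (pullback.fst At.hom A.hom) ⋙
          DCoh.LTensorMod ((Scheme.Modules.pullback (pullbackSymmetry At.hom A.hom).hom).obj P) ⋙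
          DCoh.Rpush (pullback.snd At.hom A.hom)) ⋙
        (DCoh.Lpull (pullback.fst A.hom At.hom) ⋙ DCoh.LTensorMod P ⋙ DCoh.Rpush (pullback.snd A.hom At.hom)) ≅
      ObjectProperty.ι (DCoh.IsQCohD (X := At.left)) ⋙ DCoh.Lpull ((𝟙 At)⁻¹).left ⋙
        shiftFunctor (DCoh.D At.left) (-(g : ℤ))) := by
  haveI := geometricallyIntegral_of_smooth_group A
  haveI := geometricallyIntegral_of_smooth_group At
  let σ := pullbackSymmetry At.hom A.hom
  let σ' := pullbackSymmetry A.hom At.hom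
  let Q := (Scheme.Modules.pullback σ.hom).obj P
  have hQ : PicF.IsInvertible Q := AmpleDevLib.isInvertible_pb σ.hom hP
  let Q' := (Scheme.Modules.pullback σ'.hom).obj Q
  have hQ' : PicF.IsInvertible Q' := AmpleDevLib.isInvertible_pb σ'.hom hQ
  haveI : DCoh.HasLTensorMod Q' := KFlatLib.hasLTensorMod _
  let e := (η[At] : 𝟙_ (Over (Spec (CommRingCat.of k))) ⟶ At).left
  haveI : IsClosedImmersion e := isClosedImmersion_eta At
  haveI := DCohRestrLib.hasRpush (pullback.fst At.hom A.hom)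
  haveI := DCohRestrLib.hasRpush e
  obtain ⟨a⟩ := nonempty_rpush_iso_inD σ (pullback.snd A.hom At.hom)
    (pullback.fst At.hom A.hom) (pullbackSymmetry_hom_comp_snd _ _) hP
  obtain ⟨-, -, h, ⟨i⟩⟩ := poincare_top hφ hP hPξ hg
  obtain ⟨b⟩ := nonempty_rpush_single (pullback.snd A.hom At.hom) e P g h i
  have hadd : ∀ {V : Over (Spec (CommRingCat.of k))} (x y : V ⟶ At) (w : V ⟶ A),
      cP hQ (x * y) w = cP hQ x w + cP hQ y w := by
    intro V x y w
    have h0 : ∀ z : V ⟶ At, cP hQ z w = cP hP w z := fun z => by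
      rw [cP, cP, ← pullA_clA σ.hom hP]
      refine (pullA_comp (lift z w).left σ.hom (clA hP)).trans
        (congrArg (fun j => pullA j (clA hP)) (Limits.pullback.hom_ext ?_ ?_))
      · rw [Category.assoc, pullbackSymmetry_hom_comp_fst]
        exact (congrArg Over.Hom.left (lift_snd z w)).trans (congrArg Over.Hom.left (lift_fst w z)).symm
      · rw [Category.assoc, pullbackSymmetry_hom_comp_snd]
        exact (congrArg Over.Hom.left (lift_fst z w)).trans (congrArg Over.Hom.left (lift_snd w z)).symm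
    rw [h0, h0, h0]
    exact cP_mul_right hP hPξ hφ w x y
  obtain ⟨t⟩ := nonempty_swap_comp At A Q hQ hadd g ⟨a.symm ≪≫ b⟩
  have hcl : clA hQ' = clA hP := by
    rw [← pullA_clA σ'.hom hQ, ← pullA_clA σ.hom hP, pullA_comp,
      show σ'.hom ≫ σ.hom = 𝟙 _ from Limits.pullback.hom_ext (by simp [σ, σ']) (by simp [σ, σ'])]
    exact pullA_id _
  obtain ⟨iP⟩ := (clA_eq_iff _ _).1 hcl
  obtain ⟨l₁⟩ := nonempty_lt_tw hQ'
  obtain ⟨l₂⟩ := nonempty_lt_tw hP
  obtain ⟨l⟩ := nonempty_tw_congr hQ' hP iP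
  exact ⟨Functor.isoWhiskerLeft _ (Functor.isoWhiskerLeft _ (Functor.isoWhiskerLeft _
    (Functor.isoWhiskerRight (l₂ ≪≫ l.symm ≪≫ l₁.symm) _))) ≪≫ t⟩

end Groth.Agent.FMTransLib

namespace Groth.Agent.FMTransLib

/-- A functor whose two-sided composites are twists by autoequivalences is an equivalence. -/
theorem isEquivalence_of_comp {C D : Type*} [Category C] [Category D] (F : C ⥤ D) (G : D ⥤ C)
    (h₁ : (F ⋙ G).IsEquivalence) (h₂ : (G ⋙ F).IsEquivalence) : F.IsEquivalence := by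
  haveI := Functor.Faithful.of_comp F G
  haveI := Functor.Faithful.of_comp G F
  haveI := Functor.Full.of_comp_faithful F G
  haveI : F.EssSurj := ⟨fun Y => ⟨G.obj ((G ⋙ F).objPreimage Y), ⟨(G ⋙ F).objObjPreimageIso Y⟩⟩⟩
  exact {}

/-- A functor agreeing on quasi-coherent objects with `L(-1)^*[n]` is an equivalence of those. -/
theorem isEquivalence_inv_shift {k : Type u} [Field k] (B : Over (Spec (CommRingCat.of k))) [GrpObj B]
    [DCoh.HasLpull ((𝟙 B)⁻¹).left] (n : ℤ)
    (E : (DCoh.IsQCohD (X := B.left)).FullSubcategory ⥤ (DCoh.IsQCohD (X := B.left)).FullSubcategory)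
    (e : Nonempty (E ⋙ ObjectProperty.ι (DCoh.IsQCohD (X := B.left)) ≅
      ObjectProperty.ι (DCoh.IsQCohD (X := B.left)) ⋙ DCoh.Lpull ((𝟙 B)⁻¹).left ⋙
        shiftFunctor (DCoh.D B.left) n)) : E.IsEquivalence := by
  obtain ⟨e⟩ := e
  obtain ⟨v⟩ := nonempty_lpull_inv_inv B
  let L := DCoh.Lpull ((𝟙 B)⁻¹).left
  haveI : L.IsEquivalence := (CategoryTheory.Equivalence.mk L L v.symm v).isEquivalence_functor
  let inc := ObjectProperty.ι (DCoh.IsQCohD (X := B.left))
  haveI : inc.Full := inferInstance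
  haveI : inc.Faithful := inferInstance
  haveI : (E ⋙ inc).Faithful := Functor.Faithful.of_iso e.symm
  haveI : (E ⋙ inc).Full := Functor.Full.of_iso e.symm
  haveI := Functor.Faithful.of_comp E inc
  haveI := Functor.Full.of_comp_faithful E inc
  haveI : E.EssSurj := ⟨fun Y => by
    let X : (DCoh.IsQCohD (X := B.left)).FullSubcategory :=
      ⟨L.obj (Y.obj⟦-n⟧), KFlatLib.isQCohD_lpull _ _ (KFlatLib.isQCohD_shift Y.property (-n))⟩
    exact ⟨X, ⟨(DCoh.IsQCohD (X := B.left)).fullyFaithfulι.preimageIso (e.app X ≪≫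
      (shiftFunctor _ n).mapIso (v.app _) ≪≫ (shiftFunctorCompIsoId (DCoh.D B.left) (-n) n (by omega)).app _)⟩⟩⟩
  exact {}

variable {k : Type u} [Field k]

/-- Mukai's theorem. -/
theorem isEquivalence_mukai {A At : Over (Spec (CommRingCat.of k))} [GrpObj A] [IsProper A.hom] [Smooth A.hom]
    [GeometricallyConnected A.hom]
    [GrpObj At] [IsProper At.hom] [Smooth At.hom] [GeometricallyConnected At.hom]
    {φ : AgPol.DualMap A At} (hφ : AbDual.IsDualAV Scheme.fppfPrecoverage A At φ)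
    {P : (pullback A.hom At.hom).Modules} (hP : PicF.IsInvertible P)
    (hPξ : AbDual.IsPoincareCl A At φ (PicF.cl P))
    [DCoh.HasLpull (pullback.fst A.hom At.hom)] [DCoh.HasLTensorMod P] [DCoh.HasRpush (pullback.snd A.hom At.hom)]
    (h : ∀ M : DCoh.D A.left, DCoh.IsQCohD M → DCoh.IsQCohD ((DCoh.Lpull (pullback.fst A.hom At.hom) ⋙ DCoh.LTensorMod P ⋙ DCoh.Rpush (pullback.snd A.hom At.hom)).obj M)) :
    (ObjectProperty.lift (DCoh.IsQCohD (X := At.left))
        (ObjectProperty.ι (DCoh.IsQCohD (X := A.left)) ⋙ (DCoh.Lpull (pullback.fst A.hom At.hom) ⋙ DCoh.LTensorMod P ⋙ DCoh.Rpush (pullback.snd A.hom At.hom)))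
        (fun M => h M.obj M.property)).IsEquivalence := by
  haveI := geometricallyIntegral_of_smooth_group A
  obtain ⟨g, hg⟩ := exists_dim_field A
  let Q := (Scheme.Modules.pullback (pullbackSymmetry At.hom A.hom).hom).obj P
  have hQ : PicF.IsInvertible Q := AmpleDevLib.isInvertible_pb (pullbackSymmetry At.hom A.hom).hom hP
  haveI : DCoh.HasLTensorMod Q := KFlatLib.hasLTensorMod Q
  haveI := KFlatLib.hasLpull (pullback.fst At.hom A.hom)
  haveI := KFlatLib.hasLpull ((𝟙 A)⁻¹).left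
  haveI := KFlatLib.hasLpull ((𝟙 At)⁻¹).left
  haveI := DCohRestrLib.hasRpush (pullback.snd At.hom A.hom)
  let Φ' := DCoh.Lpull (pullback.fst At.hom A.hom) ⋙ DCoh.LTensorMod Q ⋙ DCoh.Rpush (pullback.snd At.hom A.hom)
  have h' : ∀ M : DCoh.D At.left, DCoh.IsQCohD M → DCoh.IsQCohD (Φ'.obj M) := fun M hM => by
    obtain ⟨t⟩ := nonempty_lt_tw hQ
    exact QRlimLib.isQCohD_rpush (pullback.snd At.hom A.hom)
      (KFlatLib.isQCohD_iso (t.app _).symm (isQCohD_tw hQ (KFlatLib.isQCohD_lpull _ M hM)))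
  refine isEquivalence_of_comp _ (ObjectProperty.lift (DCoh.IsQCohD (X := A.left))
    (ObjectProperty.ι (DCoh.IsQCohD (X := At.left)) ⋙ Φ') fun M => h' M.obj M.property) ?_ ?_
  · exact isEquivalence_inv_shift A (-(g : ℤ)) _ (nonempty_mukai hφ hP hPξ hg)
  · exact isEquivalence_inv_shift At (-(g : ℤ)) _ (nonempty_mukai_dual hφ hP hPξ hg)

end Groth.Agent.FMTransLib
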