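import Groth.Agent.FMTransLib.PoincSwap
import Groth.Agent.CubeConsLib.Invariant
import Groth.Agent.SquareLib.Link
import Groth.Agent.AVAmpleLib.TateLattice

/-!
# Distinct points give distinct line bundles on the dual
-/

set_option autoImplicit false
set_option maxHeartbeats 1000000
set_option maxRecDepth 8000
set_option backward.isDefEq.respectTransparency false
set_option linter.style.haveILetI false

noncomputable section

universe u

open CategoryTheory CategoryTheory.Limits MonoidalCategory CartesianMonoidalCategory MonObj AlgebraicGeometry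
open CubeConsLib AVIndexLib AVAmpleLib

namespace Groth.Agent.FMTransLib

variable {k : Type u} [Field k] [IsAlgClosed k]

/-- The fibre over a closed point is the slice at the rational point. -/
theorem exists_fibre_factor (B V : Over (Spec (CommRingCat.of k))) [LocallyOfFiniteType V.hom] {y : V.left}
    (hy : IsClosed ({y} : Set V.left)) :
    ∃ a : 𝟙_ (Over (Spec (CommRingCat.of k))) ⟶ V, a.left (IsLocalRing.closedPoint k) = y ∧
      ∃ c, pullback.fst (snd B V).left (V.left.fromSpecResidueField y) = c ≫ (lift (𝟙 B) (toUnit B ≫ a)).left := by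
  let a : 𝟙_ (Over (Spec (CommRingCat.of k))) ⟶ V :=
    Over.homMk (pointOfClosedPoint V.hom y hy) (pointOfClosedPoint_comp V.hom y hy)
  let p := (snd B V).left
  let c := pullback.fst p (V.left.fromSpecResidueField y) ≫ (fst B V).left
  refine ⟨a, pointOfClosedPoint_apply V.hom y hy _, c, ?_⟩
  have ha : V.left.fromSpecResidueField y = (V.left.fromSpecResidueField y ≫ V.hom) ≫ a.left := by
    show _ = _ ≫ pointOfClosedPoint V.hom y hy
    rw [pointOfClosedPoint, ← SpecMap_residueFieldIsoBase_inv V.hom y hy, ← Category.assoc, ← Spec.map_comp,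
      Iso.hom_inv_id, Spec.map_id, Category.id_comp]
  refine Over.tensorObj_ext _ _ ?_ ?_
  · rw [Category.assoc]
    change c = c ≫ (lift (𝟙 B) (toUnit B ≫ a) ≫ fst B V).left
    rw [lift_fst, Over.id_left, Category.comp_id]
  · rw [Category.assoc]
    change pullback.fst p _ ≫ p = c ≫ (lift (𝟙 B) (toUnit B ≫ a) ≫ snd B V).left
    rw [lift_snd, Over.comp_left, pullback.condition]
    change _ = c ≫ B.hom ≫ a.left
    rw [← Category.assoc c B.hom]
    have hc : c ≫ B.hom = pullback.fst p (V.left.fromSpecResidueField y) ≫ p ≫ V.hom := by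
      show (_ ≫ (fst B V).left) ≫ B.hom = _ ≫ (snd B V).left ≫ V.hom
      rw [Category.assoc, Over.w, Over.w]
    rw [hc, pullback.condition_assoc, Category.assoc]
    exact (congrArg (pullback.snd p _ ≫ ·) ha).trans (by simp only [Category.assoc])

variable {A At : Over (Spec (CommRingCat.of k))} [GrpObj A] [IsProper A.hom] [GeometricallyIntegral A.hom]
  [GrpObj At] [IsProper At.hom] [GeometricallyIntegral At.hom]
  {φ : AgPol.DualMap A At}

/-- A point with trivial bundle on the dual is the origin. -/
theorem eq_one_of_cP (hφ : AbDual.IsDualAV Scheme.fppfPrecoverage A At φ)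
    {P : (PicF.XT A.hom At).Modules} (hP : PicF.IsInvertible P)
    (hPξ : AbDual.IsPoincareCl A At φ (PicF.cl P)) (a : 𝟙_ (Over (Spec (CommRingCat.of k))) ⟶ A)
    (h : cP hP (toUnit At ≫ a) (𝟙 At) = 0) : a = 1 := by
  obtain ⟨g, hg⟩ := exists_dim_field A
  let σ : PicF.XT At.hom A ⟶ PicF.XT A.hom At := (pullbackSymmetry At.hom A.hom).hom
  let q := PicF.XTproj At.hom A
  have hP' : PicF.IsInvertible ((Scheme.Modules.pullback σ).obj P) := AmpleDevLib.isInvertible_pb σ hP
  obtain ⟨hzero, ⟨et⟩⟩ := poincare_fst hφ hP hPξ hg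
  let z := a.left (IsLocalRing.closedPoint k)
  have hz : IsClosed ({z} : Set A.left) := SquareLib.isClosed_img a
  haveI : LocallyOfFinitePresentation A.hom := LocallyOfFinitePresentation.iff_locallyOfFiniteType.2 inferInstance
  haveI : LocallyOfFinitePresentation At.hom := LocallyOfFinitePresentation.iff_locallyOfFiniteType.2 inferInstance
  haveI : IsProper q := MorphismProperty.pullback_snd (P := @IsProper) At.hom A.hom ‹_›
  haveI : Flat q := MorphismProperty.pullback_snd (P := @Flat) At.hom A.hom inferInstance
  haveI : LocallyOfFinitePresentation q :=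
    MorphismProperty.pullback_snd (P := @LocallyOfFinitePresentation) At.hom A.hom inferInstance
  haveI : GeometricallyIntegral q := inferInstanceAs (GeometricallyIntegral (Limits.pullback.snd At.hom A.hom))
  haveI : IsLocallyNoetherian A.left := LocallyOfFiniteType.isLocallyNoetherian A.hom
  haveI : IsLocallyNoetherian (PicF.XT At.hom A) := LocallyOfFiniteType.isLocallyNoetherian q
  obtain ⟨a', ha', c, hc⟩ := exists_fibre_factor At A hz
  obtain rfl : a' = a := SquareLib.ext_point ha'
  have hfib : pullA (pullback.fst q (A.left.fromSpecResidueField z)) (clA hP') = 0 := by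
    show pullA (pullback.fst (snd At A).left (A.left.fromSpecResidueField z)) (clA hP') = 0
    rw [hc, ← pullA_clA σ hP]
    refine (pullA_comp _ σ (clA hP)).trans ?_
    have e : (c ≫ (lift (𝟙 At) (toUnit At ≫ a')).left) ≫ σ = c ≫ (lift (toUnit At ≫ a') (𝟙 At)).left := by
      rw [Category.assoc]
      refine congrArg (c ≫ ·) (pullback.hom_ext ?_ ?_)
      · exact ((Category.assoc _ _ _).trans (congrArg (_ ≫ ·) (pullbackSymmetry_hom_comp_fst _ _))).trans
          ((congrArg Over.Hom.left (lift_snd (𝟙 At) (toUnit At ≫ a'))).trans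
            (congrArg Over.Hom.left (lift_fst (toUnit At ≫ a') (𝟙 At))).symm)
      · exact ((Category.assoc _ _ _).trans (congrArg (_ ≫ ·) (pullbackSymmetry_hom_comp_snd _ _))).trans
          ((congrArg Over.Hom.left (lift_fst (𝟙 At) (toUnit At ≫ a'))).trans
            (congrArg Over.Hom.left (lift_snd (toUnit At ≫ a') (𝟙 At))).symm)
    refine (congrArg (fun j => pullA j (clA hP)) e).trans ?_
    refine (pullA_comp c _ (clA hP)).symm.trans ?_
    exact (congrArg (pullA c) h).trans (map_zero _)
  rw [pullA_clA _ hP', ← clA_one, clA_eq_iff] at hfib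
  haveI := nontrivial_stalk_top hP' z hz hzero hfib
  refine SquareLib.ext_point ?_
  have hs : z ∈ Set.range (η[A] : 𝟙_ (Over (Spec (CommRingCat.of k))) ⟶ A).left := by
    by_contra hzn
    haveI : IsClosedImmersion (η[A] : 𝟙_ (Over (Spec (CommRingCat.of k))) ⟶ A).left := isClosedImmersion_eta A
    exact not_subsingleton (((Coh.Rpush q g).obj ((Scheme.Modules.pullback σ).obj P)).presheaf.stalk z)
      ((((DevissLib.St z).mapIso et).toLinearEquiv.toEquiv.subsingleton_congr).2
        (by_contra fun hns => hzn (DevissLib.support_push_subset _ _ hns)))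
  obtain ⟨w, hw⟩ := hs
  show z = (1 : 𝟙_ (Over (Spec (CommRingCat.of k))) ⟶ A).left (IsLocalRing.closedPoint k)
  rw [Hom.one_def, toUnit_unique (toUnit _) (𝟙 _), Category.id_comp, ← hw]
  exact congrArg _ (Subsingleton.elim (α := PrimeSpectrum k) _ _)

end Groth.Agent.FMTransLib

end
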