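import Groth.Agent.FMTransLib.Translate

/-!
# The pullback of the transform of a line bundle along its polarisation map
-/

set_option autoImplicit false
set_option linter.style.haveILetI false
set_option backward.isDefEq.respectTransparency false
set_option backward.isDefEq.respectTransparency.types false
set_option maxRecDepth 8000
set_option maxHeartbeats 1000000
set_option synthInstance.maxHeartbeats 200000

universe u

open CategoryTheory CategoryTheory.Limits MonoidalCategory CartesianMonoidalCategory MonObj AlgebraicGeometry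
open CubeConsLib Groth.Agent.DerLib Groth.Agent.PerfDualLib Groth.Agent.ProjFormLib

attribute [local instance] HasDerivedCategory.standard

namespace Groth.Agent.FMTransLib

variable {X Y : Scheme.{u}}

theorem nonempty_tw_inD {N : X.Modules} (hN : PicF.IsInvertible N) (M : X.Modules) :
    Nonempty ((TW hN).obj (DCoh.inD X M) ≅ DCoh.inD X (CohB1.tensorMod M N)) := by
  haveI := KoszOrthLib.preservesFiniteLimits_tensorRightMod hN
  haveI := KoszOrthLib.preservesFiniteColimits_tensorRightMod hN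
  exact ⟨((DCoh.tensorRightMod N).mapDerivedCategorySingleFunctor 0).app M⟩

theorem isQCohD_inD_inv {L : X.Modules} (hL : PicF.IsInvertible L) : DCoh.IsQCohD (DCoh.inD X L) :=
  KoszOrthLib.isQCohD_of_isPerfect (KoszOrthLib.isPerfect_inD_invertible hL)

theorem nonempty_lpull_inD (g : Y ⟶ X) [DCoh.HasLpull g] {L : X.Modules} (hL : PicF.IsInvertible L) :
    Nonempty ((DCoh.Lpull g).obj (DCoh.inD X L) ≅ DCoh.inD Y ((Scheme.Modules.pullback g).obj L)) :=
  ⟨(DCoh.Lpull g).mapIso (FMKLib.oneCxIso L).symm ≪≫ KFlatLib.lpullObjIso g _ (isKFlat_oneCx hL) ≪≫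
    DerivedCategory.Q.mapIso
      ((HomologicalComplex.singleMapHomologicalComplex (Scheme.Modules.pullback g) (ComplexShape.up ℤ) 0).app L) ≪≫
    FMKLib.oneCxIso _⟩

/-- The projection formula for an invertible module. -/
theorem nonempty_tw_rpush (q : X ⟶ Y) [QuasiCompact q] [QuasiSeparated q] [DCoh.HasRpush q]
    {N : Y.Modules} (hN : PicF.IsInvertible N) :
    Nonempty ((DCoh.IsQCohD (X := X)).ι ⋙ DCoh.Rpush q ⋙ TW hN ≅
      (DCoh.IsQCohD (X := X)).ι ⋙ TW (AmpleDevLib.isInvertible_pb q hN) ⋙ DCoh.Rpush q) := by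
  let F := FMKLib.oneCx N
  haveI := KFlatLib.hasLTensorCx F
  haveI := KFlatLib.hasLTensorCx ((KFlatLib.pullCx q).obj F)
  haveI := KFlatLib.hasLTensorCx (FMKLib.oneCx ((Scheme.Modules.pullback q).obj N))
  obtain ⟨fN⟩ := nonempty_tw_ltCx hN
  obtain ⟨fq⟩ := nonempty_tw_ltCx (AmpleDevLib.isInvertible_pb q hN)
  have hFq : DCoh.IsQCohD (DerivedCategory.Q.obj F) :=
    KFlatLib.isQCohD_iso (FMKLib.oneCxIso N).symm (isQCohD_inD_inv hN)
  obtain ⟨g⟩ := ProjFormLib.nonempty_lTensor_congr_iso (M := (KFlatLib.pullCx q).obj F)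
    (N := FMKLib.oneCx ((Scheme.Modules.pullback q).obj N))
    (DerivedCategory.Q.mapIso
      ((HomologicalComplex.singleMapHomologicalComplex (Scheme.Modules.pullback q) (ComplexShape.up ℤ) 0).app N))
  obtain ⟨b⟩ := DualFMLib.nonempty_projNat q F (isKFlat_oneCx hN) hFq
  exact ⟨Functor.isoWhiskerLeft _ (Functor.isoWhiskerLeft (DCoh.Rpush q) fN) ≪≫ b ≪≫
    Functor.isoWhiskerLeft _ (Functor.isoWhiskerRight (g ≪≫ fq.symm) (DCoh.Rpush q))⟩

variable (k : Type u) [Field k]
  (A At : Over (Spec (CommRingCat.of k))) [GrpObj A] [IsProper A.hom] [Smooth A.hom] [GeometricallyConnected A.hom]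
  [GrpObj At]
  (φ : ∀ T : Over (Spec (CommRingCat.of k)), PicF.Cl (PicF.XT A.hom T) → (T ⟶ At))

theorem isPullback_mul :
    IsPullback (μ[A] : A ⊗ A ⟶ A).left (pullback.snd A.hom A.hom) A.hom A.hom := by
  have hμ : (μ[A] : A ⊗ A ⟶ A) = fst A A * snd A A := by
    rw [Hom.mul_def, lift_fst_snd, Category.id_comp]
  let σ : A ⊗ A ≅ A ⊗ A :=
    { hom := lift (μ[A]) (snd A A)
      inv := lift (fst A A * (snd A A)⁻¹) (snd A A)
      hom_inv_id := by
        rw [comp_lift, MonObj.comp_mul, GrpObj.comp_inv, lift_fst, lift_snd, hμ, _root_.mul_inv_cancel_right,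
          lift_fst_snd]
      inv_hom_id := by
        rw [comp_lift, lift_snd, hμ, MonObj.comp_mul, lift_fst, lift_snd, inv_mul_cancel_right, lift_fst_snd] }
  exact IsPullback.of_iso_pullback ⟨Over.w (μ[A] : A ⊗ A ⟶ A) |>.trans pullback.condition⟩
    ((Over.forget _).mapIso σ) (congrArg Over.Hom.left (lift_fst (μ[A]) (snd A A)))
    (congrArg Over.Hom.left (lift_snd (μ[A]) (snd A A)))

theorem fm_pull_phi (hφ : AbDual.IsDualAV Scheme.fppfPrecoverage A At φ)
    (P : (pullback A.hom At.hom).Modules) (hP : PicF.IsInvertible P)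
    (hPξ : AbDual.IsPoincareCl A At φ (PicF.cl P))
    (L : A.left.Modules) (hL : PicF.IsInvertible L) (L' : A.left.Modules)
    (hL' : Nonempty (CohB1.tensorMod L L' ≅ Coh.structureModule A.left))
    (Λ : (PicF.XT A.hom A).Modules)
    (hΛ : Nonempty (Λ ≅ CohB1.tensorMod (CohB1.tensorMod ((Scheme.Modules.pullback μ[A].left).obj L)
      ((Scheme.Modules.pullback (fst A A).left).obj L')) ((Scheme.Modules.pullback (snd A A).left).obj L')))
    (hΛ0 : AbDual.IsPicZeroCl A.hom A (PicF.cl Λ))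
    [DCoh.HasLpull (pullback.fst A.hom At.hom)] [DCoh.HasLTensorMod P] [DCoh.HasRpush (pullback.snd A.hom At.hom)]
    [DCoh.HasLpull (φ A (PicF.cl Λ)).left] [DCoh.HasRpush A.hom] [DCoh.HasLpull A.hom] [DCoh.HasLTensorMod L'] :
    Nonempty ((DCoh.Lpull (φ A (PicF.cl Λ)).left).obj ((DCoh.Lpull (pullback.fst A.hom At.hom) ⋙ DCoh.LTensorMod P ⋙ DCoh.Rpush (pullback.snd A.hom At.hom)).obj (DCoh.inD A.left L)) ≅
      (DCoh.LTensorMod L').obj ((DCoh.Lpull A.hom).obj ((DCoh.Rpush A.hom).obj (DCoh.inD A.left L)))) := by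
  haveI := geometricallyIntegral_of_smooth_group A
  haveI : IsReduced A.left := AlgSpLib.isReduced_of_smooth A.hom
  have hL'inv : PicF.IsInvertible L' := by
    have h1 : cl L * cl L' = 1 := cl_eq_one_iff.2 hL'
    have h2 : cl (MiscFlat6.dual L) = cl L' :=
      left_inv_eq_right_inv ((mul_comm _ _).trans (cl_mul_dual hL)) h1
    exact HilbPolyLib.isInvertible_of_iso (cl_eq_iff.1 h2).some (MiscFlat6.dual_isInvertible hL)
  have hLL' : clA hL + clA hL'inv = 0 := by
    rw [← clA_tensor hL hL'inv, ← clA_one, clA_eq_iff]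
    exact hL'
  obtain ⟨eΛ⟩ := hΛ
  let m : pullback A.hom A.hom ⟶ A.left := (μ[A] : A ⊗ A ⟶ A).left
  let p := pullback.fst A.hom A.hom
  let q := pullback.snd A.hom A.hom
  have kμ : PicF.IsInvertible ((Scheme.Modules.pullback m).obj L) := AmpleDevLib.isInvertible_pb m hL
  have kp' : PicF.IsInvertible ((Scheme.Modules.pullback p).obj L') := AmpleDevLib.isInvertible_pb p hL'inv
  have kq' : PicF.IsInvertible ((Scheme.Modules.pullback q).obj L') := AmpleDevLib.isInvertible_pb q hL'inv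
  have kp : PicF.IsInvertible ((Scheme.Modules.pullback p).obj L) := AmpleDevLib.isInvertible_pb p hL
  obtain ⟨M₀, e₀, hM₀, _⟩ := id hΛ0
  have hΛi : PicF.IsInvertible Λ :=
    HilbPolyLib.isInvertible_of_iso eΛ.symm
      (HilbPolyLib.isInvertible_tensor (HilbPolyLib.isInvertible_tensor kμ kp') kq')
  have cΛ : (clA hΛi : PicA (PicF.XT A.hom A)) = pullA m (clA hL) + pullA p (clA hL'inv) + pullA q (clA hL'inv) := by
    rw [pullA_clA m hL, pullA_clA p hL'inv, pullA_clA q hL'inv, ← clA_tensor kμ kp',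
      ← clA_tensor (HilbPolyLib.isInvertible_tensor kμ kp') kq', clA_eq_iff]
    exact ⟨eΛ⟩
  let ψ := φ A (PicF.cl Λ)
  let G : A ⊗ A ⟶ A ⊗ At := lift (fst A A) (snd A A ≫ ψ)
  let g' : pullback A.hom A.hom ⟶ pullback A.hom At.hom := G.left
  have hG : g' = PicF.XTmap A.hom ψ := by
    apply Limits.pullback.hom_ext
    · exact (congrArg Over.Hom.left (lift_fst (fst A A) (snd A A ≫ ψ))).trans (XTmap_fst A.hom ψ).symm
    · exact (congrArg Over.Hom.left (lift_snd (fst A A) (snd A A ≫ ψ))).trans (XTmap_snd A.hom ψ).symm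
  have hX := AmpleDevLib.isInvertible_pb (PicF.XTmap A.hom ψ) hP
  have eX : clA hX = clA hΛi := by
    refine eq_of_phi_eq hφ hX hΛi (isPicZeroCl_XTmap ψ hPξ.1) hΛ0 ?_ ?_ ?_
    · rw [← pullA_clA _ hP, pullA_comp, secT_natural, ← pullA_comp, clA_zero_of_trivialCl _ hP hPξ.2.2, map_zero]
    · have hs : PicF.secT A.hom η[A].left (Over.w η[A]) A = (lift (1 : A ⟶ A) (𝟙 A)).left := by
        apply Limits.pullback.hom_ext
        · refine (Limits.pullback.lift_fst _ _ _).trans ?_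
          refine Eq.trans ?_ (congrArg Over.Hom.left (lift_fst (1 : A ⟶ A) (𝟙 A))).symm
          rw [show (1 : A ⟶ A) = toUnit _ ≫ η from Hom.one_def, Over.comp_left]
          rfl
        · exact (Limits.pullback.lift_snd _ _ _).trans (congrArg Over.Hom.left (lift_snd (1 : A ⟶ A) (𝟙 A))).symm
      let s := lift (1 : A ⟶ A) (𝟙 A)
      have e1 : s ≫ μ[A] = 𝟙 A := by
        rw [show (s ≫ μ[A]) = (1 : A ⟶ A) * 𝟙 A from (Hom.mul_def (1 : A ⟶ A) (𝟙 A)).symm, _root_.one_mul]
      rw [cΛ, hs, map_add, map_add, pullA_comp, pullA_comp, pullA_comp]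
      show CubeConsLib.P hL (s ≫ μ[A]) + CubeConsLib.P hL'inv (s ≫ fst A A) + CubeConsLib.P hL'inv (s ≫ snd A A) = 0
      rw [e1, lift_fst, lift_snd, P_id, P_id, P_zero, add_zero]
      exact hLL'
    · refine (hφ.relPic.natural At A ψ _ hPξ.1).trans ?_
      rw [hPξ.2.1, Category.comp_id]
  have hgP := AmpleDevLib.isInvertible_pb g' hP
  have eg : clA hgP = clA hΛi := by
    rw [← eX, clA_eq_iff, hG]
    exact ⟨Iso.refl _⟩
  obtain ⟨ig⟩ := (clA_eq_iff _ _).1 eg
  haveI := KFlatLib.hasLpull p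
  haveI := DCohRestrLib.hasRpush q
  haveI := KFlatLib.hasLpull m
  obtain ⟨e⟩ := nonempty_fm_pull (pullback.fst A.hom At.hom) (pullback.snd A.hom At.hom) ψ.left g' q
    (IsPullback.of_right (by
      rw [show g' ≫ pullback.fst A.hom At.hom = p from congrArg Over.Hom.left (lift_fst (fst A A) (snd A A ≫ ψ)),
        show ψ.left ≫ At.hom = A.hom from Over.w ψ]
      exact IsPullback.of_hasPullback A.hom A.hom)
      (congrArg Over.Hom.left (lift_snd (fst A A) (snd A A ≫ ψ))) (IsPullback.of_hasPullback A.hom At.hom))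
    (Or.inl (MorphismProperty.pullback_snd (P := @Flat) A.hom At.hom inferInstance)) p
    (congrArg Over.Hom.left (lift_fst (fst A A) (snd A A ≫ ψ))) hP
  obtain ⟨t₁⟩ := nonempty_lpull_inD p hL
  obtain ⟨t₂⟩ := nonempty_tw_inD hgP ((Scheme.Modules.pullback p).obj L)
  have eK : clA (HilbPolyLib.isInvertible_tensor kp hgP) = clA (HilbPolyLib.isInvertible_tensor kμ kq') := by
    rw [clA_tensor kp hgP, clA_tensor kμ kq', eg, cΛ, ← pullA_clA p hL, ← pullA_clA m hL, ← pullA_clA q hL'inv,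
      eq_neg_of_add_eq_zero_right hLL', map_neg]
    abel
  obtain ⟨t₃⟩ := (clA_eq_iff _ _).1 eK
  obtain ⟨t₄⟩ := nonempty_tw_inD kq' ((Scheme.Modules.pullback m).obj L)
  obtain ⟨t₅⟩ := nonempty_lpull_inD m hL
  obtain ⟨pf⟩ := nonempty_tw_rpush q hL'inv
  obtain ⟨bc⟩ := DualFMLib.nonempty_bcNat (f := A.hom) (g := A.hom) (f' := q) (g' := m)
    (isPullback_mul k A) (Or.inl inferInstance)
  obtain ⟨tL⟩ := nonempty_lt_tw hL'inv
  let K₀ : (DCoh.IsQCohD (X := A.left)).FullSubcategory := ⟨DCoh.inD A.left L, isQCohD_inD_inv hL⟩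
  let K₁ : (DCoh.IsQCohD (X := pullback A.hom A.hom)).FullSubcategory :=
    ⟨(DCoh.Lpull m).obj (DCoh.inD A.left L), KFlatLib.isQCohD_lpull m _ (isQCohD_inD_inv hL)⟩
  refine ⟨e.app K₀ ≪≫ (DCoh.Rpush q).mapIso ((TW hgP).mapIso t₁ ≪≫ t₂ ≪≫
      (DerivedCategory.singleFunctor _ 0).mapIso t₃ ≪≫ t₄.symm ≪≫ (TW kq').mapIso t₅.symm) ≪≫
    (pf.app K₁).symm ≪≫ (TW hL'inv).mapIso (bc.app K₀).symm ≪≫ (tL.app _).symm⟩

end Groth.Agent.FMTransLib
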