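import Groth.Agent.FMTransLib.PullPhi

/-!
# Transforms and direct images along homomorphisms
-/

set_option autoImplicit false
set_option linter.style.haveILetI false
set_option backward.isDefEq.respectTransparency false
set_option backward.isDefEq.respectTransparency.types false
set_option maxRecDepth 8000
set_option maxHeartbeats 1000000
set_option synthInstance.maxHeartbeats 200000

universe u

open CategoryTheory CategoryTheory.Limits MonoidalCategory CartesianMonoidalCategory MonObj AlgebraicGeometry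
open CubeConsLib Groth.Agent.DerLib Groth.Agent.PerfDualLib Groth.Agent.ProjFormLib

attribute [local instance] HasDerivedCategory.standard

namespace Groth.Agent.FMTransLib

variable (k : Type u) [Field k]
  (A At B Bt : Over (Spec (CommRingCat.of k))) [GrpObj A] [IsProper A.hom] [Smooth A.hom] [GeometricallyConnected A.hom]
  [GrpObj At] [IsProper At.hom] [Smooth At.hom] [GeometricallyConnected At.hom]
  [GrpObj B] [IsProper B.hom] [Smooth B.hom] [GeometricallyConnected B.hom]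
  [GrpObj Bt] [IsProper Bt.hom] [Smooth Bt.hom] [GeometricallyConnected Bt.hom]
  (φA : ∀ T : Over (Spec (CommRingCat.of k)), PicF.Cl (PicF.XT A.hom T) → (T ⟶ At))
  (φB : ∀ T : Over (Spec (CommRingCat.of k)), PicF.Cl (PicF.XT B.hom T) → (T ⟶ Bt))

theorem fm_pushforward (hφA : AbDual.IsDualAV Scheme.fppfPrecoverage A At φA)
    (PA : (pullback A.hom At.hom).Modules) (hPA : PicF.IsInvertible PA)
    (hPAξ : AbDual.IsPoincareCl A At φA (PicF.cl PA))
    (PB : (pullback B.hom Bt.hom).Modules) (hPB : PicF.IsInvertible PB)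
    (hPBξ : AbDual.IsPoincareCl B Bt φB (PicF.cl PB))
    (f : A ⟶ B) [IsMonHom f] (ft : Bt ⟶ At) (hft : AbDual.IsTranspose f φA φB ft)
    [DCoh.HasLpull (pullback.fst A.hom At.hom)] [DCoh.HasLTensorMod PA] [DCoh.HasRpush (pullback.snd A.hom At.hom)]
    [DCoh.HasLpull (pullback.fst B.hom Bt.hom)] [DCoh.HasLTensorMod PB] [DCoh.HasRpush (pullback.snd B.hom Bt.hom)]
    [DCoh.HasRpush f.left] [DCoh.HasLpull ft.left] :
    Nonempty (ObjectProperty.ι (DCoh.IsQCohD (X := A.left)) ⋙ DCoh.Rpush f.left ⋙ (DCoh.Lpull (pullback.fst B.hom Bt.hom) ⋙ DCoh.LTensorMod PB ⋙ DCoh.Rpush (pullback.snd B.hom Bt.hom)) ≅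
      ObjectProperty.ι (DCoh.IsQCohD (X := A.left)) ⋙ (DCoh.Lpull (pullback.fst A.hom At.hom) ⋙ DCoh.LTensorMod PA ⋙ DCoh.Rpush (pullback.snd A.hom At.hom)) ⋙ DCoh.Lpull ft.left) := by
  haveI := geometricallyIntegral_of_smooth_group A
  haveI : IsReduced Bt.left := AlgSpLib.isReduced_of_smooth Bt.hom
  haveI : IsProper (f.left ≫ B.hom) := by rw [Over.w f]; infer_instance
  haveI : IsProper f.left := IsProper.of_comp f.left B.hom
  let pA := pullback.fst A.hom Bt.hom
  let qA := pullback.snd A.hom Bt.hom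
  let g' : pullback A.hom Bt.hom ⟶ pullback A.hom At.hom := PicF.XTmap A.hom ft
  let h : pullback A.hom Bt.hom ⟶ pullback B.hom Bt.hom := AbDual.bcMap f Bt
  have hgf : g' ≫ pullback.fst A.hom At.hom = pA := XTmap_fst A.hom ft
  have hgs : g' ≫ pullback.snd A.hom At.hom = qA ≫ ft.left := XTmap_snd A.hom ft
  have hhf : h ≫ pullback.fst B.hom Bt.hom = pA ≫ f.left := bcMap_fst f Bt
  have hhs : h ≫ pullback.snd B.hom Bt.hom = qA := bcMap_snd f Bt
  have hK := AmpleDevLib.isInvertible_pb g' hPA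
  have hK' := AmpleDevLib.isInvertible_pb h hPB
  have eK : clA hK = clA hK' := by
    refine eq_of_phi_eq hφA hK hK' (isPicZeroCl_XTmap ft hPAξ.1) (isPicZeroCl_bcMap f hPBξ.1) ?_ ?_ ?_
    · rw [← pullA_clA _ hPA, pullA_comp, secT_natural, ← pullA_comp, clA_zero_of_trivialCl _ hPA hPAξ.2.2, map_zero]
    · have hs : PicF.secT A.hom η[A].left (Over.w η[A]) Bt ≫ AbDual.bcMap f Bt =
          PicF.secT B.hom η[B].left (Over.w η[B]) Bt := by
        apply Limits.pullback.hom_ext
        · rw [Category.assoc, bcMap_fst]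
          simp only [PicF.secT, Limits.pullback.lift_fst, Limits.pullback.lift_fst_assoc, Category.assoc]
          rw [← Over.comp_left, IsMonHom.one_hom (f := f)]
        · rw [Category.assoc, bcMap_snd]
          simp only [PicF.secT, Limits.pullback.lift_snd]
      rw [← pullA_clA _ hPB, pullA_comp]
      exact (congrArg (fun j => pullA j (clA hPB)) hs).trans (clA_zero_of_trivialCl _ hPB hPBξ.2.2)
    · refine ((hφA.relPic.natural At Bt ft _ hPAξ.1).trans ?_).trans (hft Bt _ hPBξ.1).symm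
      rw [hPAξ.2.1, hPBξ.2.1, Category.comp_id, Category.id_comp]
  obtain ⟨iK⟩ := (clA_eq_iff _ _).1 eK
  haveI := KFlatLib.hasLpull pA
  haveI := DCohRestrLib.hasRpush qA
  haveI := DCohRestrLib.hasRpush h
  haveI := KFlatLib.hasLpull h
  haveI := KFlatLib.hasLpull (pullback.snd B.hom Bt.hom)
  haveI := KFlatLib.hasLpull (h ≫ pullback.snd B.hom Bt.hom)
  haveI := DCohRestrLib.hasRpush (h ≫ pullback.snd B.hom Bt.hom)
  haveI := DualFMLib.qcqs_snd A.hom Bt.hom
  obtain ⟨e⟩ := nonempty_fm_pull (pullback.fst A.hom At.hom) (pullback.snd A.hom At.hom) ft.left g' qA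
    (IsPullback.of_right (by
      rw [hgf, show ft.left ≫ At.hom = Bt.hom from Over.w ft]
      exact IsPullback.of_hasPullback A.hom Bt.hom) hgs (IsPullback.of_hasPullback A.hom At.hom))
    (Or.inl (MorphismProperty.pullback_snd (P := @Flat) A.hom At.hom inferInstance)) pA hgf hPA
  obtain ⟨bc⟩ := DualFMLib.nonempty_bcNat (f := f.left) (g := pullback.fst B.hom Bt.hom) (f' := h) (g' := pA)
    (IsPullback.of_right (by
      rw [hhs, show f.left ≫ B.hom = A.hom from Over.w f]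
      exact (IsPullback.of_hasPullback A.hom Bt.hom).flip) hhf (IsPullback.of_hasPullback B.hom Bt.hom).flip).flip
    (Or.inr (MorphismProperty.pullback_fst (P := @Flat) B.hom Bt.hom inferInstance))
  haveI : IsProper h :=
    MorphismProperty.of_isPullback (P := @IsProper)
      (IsPullback.of_right (by
        rw [hhs, show f.left ≫ B.hom = A.hom from Over.w f]
        exact (IsPullback.of_hasPullback A.hom Bt.hom).flip) hhf (IsPullback.of_hasPullback B.hom Bt.hom).flip).flip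
      inferInstance
  obtain ⟨eB⟩ := nonempty_lt_tw hPB
  obtain ⟨b⟩ := DualFMLib.nonempty_whisker (P := DCoh.IsQCohD (X := A.left)) (DCoh.Lpull pA)
    (fun M hM => KFlatLib.isQCohD_lpull pA M hM) (nonempty_tw_rpush h hPB)
  obtain ⟨rc⟩ := KFlatLib.rpush_comp h (pullback.snd B.hom Bt.hom)
  obtain ⟨rc'⟩ := Dual3Lib.nonempty_rpush_congr_nat hhs
  obtain ⟨d⟩ := nonempty_tw_congr hK' hK iK.symm
  let ιA := ObjectProperty.ι (DCoh.IsQCohD (X := A.left))
  let q := pullback.snd B.hom Bt.hom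
  let p := pullback.fst B.hom Bt.hom
  exact ⟨(Functor.isoWhiskerRight bc (DCoh.LTensorMod PB ⋙ DCoh.Rpush q) :
      ιA ⋙ DCoh.Rpush f.left ⋙ (DCoh.Lpull p ⋙ DCoh.LTensorMod PB ⋙ DCoh.Rpush q) ≅
        ιA ⋙ DCoh.Lpull pA ⋙ DCoh.Rpush h ⋙ DCoh.LTensorMod PB ⋙ DCoh.Rpush q) ≪≫
    (Functor.isoWhiskerLeft ιA (Functor.isoWhiskerLeft (DCoh.Lpull pA) (Functor.isoWhiskerLeft (DCoh.Rpush h)
      (Functor.isoWhiskerRight eB _)))) ≪≫
    (Functor.isoWhiskerRight b (DCoh.Rpush q) :
      ιA ⋙ DCoh.Lpull pA ⋙ DCoh.Rpush h ⋙ TW hPB ⋙ DCoh.Rpush q ≅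
        ιA ⋙ DCoh.Lpull pA ⋙ TW (AmpleDevLib.isInvertible_pb h hPB) ⋙ (DCoh.Rpush h ⋙ DCoh.Rpush q)) ≪≫
    Functor.isoWhiskerLeft ιA (Functor.isoWhiskerLeft (DCoh.Lpull pA)
      (Functor.isoWhiskerRight d _ ≪≫ Functor.isoWhiskerLeft _ (rc ≪≫ rc'))) ≪≫ e.symm⟩

end Groth.Agent.FMTransLib
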