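import Groth.Agent.FMTransLib.TorsFree
import Groth.Agent.FMTransLib.PoincInj
import Groth.Agent.FMTransLib.Core
import Groth.Agent.SquareLib.LinkConn
import Groth.Agent.AVAmpleLib.Torsion
import Groth.Agent.FMKLib.Twist
import Groth.Agent.S4357
import Groth.Agent.ConsLib.ModLoci
import Groth.Agent.KFlatLib.PullTensor

/-!
# Coherent modules fixed by all algebraically trivial twists have finite support
-/

set_option autoImplicit false
set_option maxHeartbeats 2000000
set_option maxRecDepth 8000
set_option linter.style.haveILetI false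
set_option backward.isDefEq.respectTransparency false
set_option backward.isDefEq.respectTransparency.types false

noncomputable section

universe u

open CategoryTheory CategoryTheory.Limits MonoidalCategory CartesianMonoidalCategory MonObj AlgebraicGeometry
open CubeConsLib AVIndexLib AVAmpleLib

attribute [local instance] HasDerivedCategory.standard

namespace Groth.Agent.FMTransLib

variable {k : Type u} [Field k] [IsAlgClosed k] {A At : Over (Spec (CommRingCat.of k))}
  [GrpObj A] [IsProper A.hom] [GeometricallyIntegral A.hom]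
  [GrpObj At] [IsProper At.hom] [GeometricallyIntegral At.hom]
  {φ : AgPol.DualMap A At}
  (hφ : AbDual.IsDualAV Scheme.fppfPrecoverage A At φ)
  {P : (PicF.XT A.hom At).Modules} (hP : PicF.IsInvertible P)
  (hPξ : AbDual.IsPoincareCl A At φ (PicF.cl P))

include hφ hPξ in
/-- A proper curve on which all algebraically trivial bundles are trivial is contracted. -/
theorem eq_of_trivial_on {C : Over (Spec (CommRingCat.of k))} [IsProper C.hom] [Flat C.hom] [GeometricallyIntegral C.hom]
    (ν : C ⟶ A)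
    (h : ∀ x : 𝟙_ (Over (Spec (CommRingCat.of k))) ⟶ At, cP hP ν (toUnit C ≫ x) = 0)
    (c c' : 𝟙_ (Over (Spec (CommRingCat.of k))) ⟶ C) : c ≫ ν = c' ≫ ν := by
  haveI : LocallyOfFinitePresentation A.hom := LocallyOfFinitePresentation.iff_locallyOfFiniteType.2 inferInstance
  haveI : LocallyOfFinitePresentation At.hom := LocallyOfFinitePresentation.iff_locallyOfFiniteType.2 inferInstance
  let p := (snd C At).left
  haveI : IsProper p := MorphismProperty.pullback_snd (P := @IsProper) C.hom At.hom ‹_›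
  haveI : Flat p := MorphismProperty.pullback_snd (P := @Flat) C.hom At.hom inferInstance
  haveI : GeometricallyIntegral p := inferInstanceAs (GeometricallyIntegral (Limits.pullback.snd C.hom At.hom))
  haveI : IsLocallyNoetherian At.left := LocallyOfFiniteType.isLocallyNoetherian At.hom
  haveI : IsReduced At.left := GeometricallyReduced.isReduced_of_flat_of_isLocallyNoetherian At.hom
  haveI : JacobsonSpace At.left := jacobsonSpace_of_field At.hom
  let g : C ⊗ At ⟶ A ⊗ At := lift (fst C At ≫ ν) (snd C At)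
  have hL : PicF.IsInvertible ((Scheme.Modules.pullback g.left).obj P) := AmpleDevLib.isInvertible_pb g.left hP
  have hLc : clA hL = cP hP (fst C At ≫ ν) (snd C At) := (pullA_clA g.left hP).symm
  obtain ⟨N, hN, hiso⟩ := seesaw_closedPoints p hL (isInvertible_one _) fun y hy => by
    obtain ⟨a, -, c₀, hc⟩ := exists_fibre_factor C At hy
    rw [← clA_eq_iff (AmpleDevLib.isInvertible_pb _ hL) (AmpleDevLib.isInvertible_pb _ (isInvertible_one _)),
      ← pullA_clA _ hL, ← pullA_clA _ (isInvertible_one _), clA_one, map_zero, hc, ← pullA_comp, hLc]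
    refine (congrArg (pullA c₀) ?_).trans (map_zero _)
    rw [pullA_cP, lift_fst_assoc, lift_snd, Category.id_comp]
    exact h a
  have hN' : PicF.IsInvertible ((Scheme.Modules.pullback p).obj N) := AmpleDevLib.isInvertible_pb _ hN
  have hc : cP hP (fst C At ≫ ν) (snd C At) = pullA p (clA hN) := by
    rw [← clA_eq_iff hL (HilbPolyLib.isInvertible_tensor (isInvertible_one _) hN'),
      clA_tensor (isInvertible_one _) hN', clA_one, zero_add, ← pullA_clA p hN, hLc] at hiso
    exact hiso
  have hd : ∀ d : 𝟙_ (Over (Spec (CommRingCat.of k))) ⟶ C, cP hP (toUnit At ≫ d ≫ ν) (𝟙 At) = clA hN := by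
    intro d
    have e := congrArg (pullA (lift (toUnit At ≫ d) (𝟙 At)).left) hc
    rw [pullA_cP, lift_fst_assoc, lift_snd, pullA_comp] at e
    rw [Category.assoc] at e
    refine e.trans ?_
    rw [show (lift (toUnit At ≫ d) (𝟙 At)).left ≫ p = 𝟙 _ from
      congrArg Over.Hom.left (lift_snd (toUnit At ≫ d) (𝟙 At))]
    exact pullA_id _
  have h1 : cP hP (toUnit At ≫ ((c ≫ ν) * (c' ≫ ν)⁻¹)) (𝟙 At) + cP hP (toUnit At ≫ c' ≫ ν) (𝟙 At) =
      cP hP (toUnit At ≫ c ≫ ν) (𝟙 At) := by
    rw [← cP_mul_left hP hPξ, ← MonObj.comp_mul, inv_mul_cancel_right]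
  rw [hd, hd, add_eq_right] at h1
  exact mul_inv_eq_one.1 (eq_one_of_cP hφ hP hPξ _ h1)

include hφ hP hPξ in
/-- A coherent module fixed by all algebraically trivial twists has finite support. -/
theorem support_finite [GeometricallyConnected At.hom] {F : A.left.Modules} (hF : Coh.IsCoh F)
    (hinv : ∀ x : 𝟙_ (Over (Spec (CommRingCat.of k))) ⟶ At, Nonempty (CohB1.tensorMod F
      ((Scheme.Modules.pullback (lift (𝟙 A) (toUnit A ≫ x)).left).obj P) ≅ F)) :
    (CohB1.support F).Finite := by
  haveI : Coh.IsQCoh F := hF.1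
  haveI : LocallyOfFinitePresentation A.hom := LocallyOfFinitePresentation.iff_locallyOfFiniteType.2 inferInstance
  haveI : LocallyOfFinitePresentation At.hom := LocallyOfFinitePresentation.iff_locallyOfFiniteType.2 inferInstance
  haveI : IsCommMonObj At := isCommMonObj_field
  haveI : IsLocallyNoetherian A.left := LocallyOfFiniteType.isLocallyNoetherian A.hom
  haveI : CompactSpace A.left := QuasiCompact.compactSpace_of_compactSpace A.hom
  haveI : JacobsonSpace A.left := LocallyOfFiniteType.jacobsonSpace A.hom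
  haveI : IsNoetherian A.left := ⟨⟩
  by_contra hinf
  have hZ : IsClosed (CohB1.support F) := QCohLib.isClosed_support F hF.2
  -- a component which is not a point
  obtain ⟨Z₀, hZ₀, hZ₀c, hZ₀sub, hZ₀inf⟩ : ∃ Z₀ : Set A.left, IsIrreducible Z₀ ∧ IsClosed Z₀ ∧
      Z₀ ⊆ CohB1.support F ∧ Z₀.Infinite := by
    obtain ⟨S, hS, hSc, hSirr, hSeq⟩ :=
      TopologicalSpace.NoetherianSpace.exists_finite_set_isClosed_irreducible hZ
    by_contra hno
    push Not at hno
    refine hinf (hSeq.symm ▸ hS.sUnion fun t ht => ?_)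
    exact hno t (hSirr t ht) (hSc t ht) (hSeq.symm ▸ Set.subset_sUnion_of_mem ht)
  obtain ⟨Y₀, i₀, hi₀, hY₀, hr₀⟩ := SquareLib.exists_integral_sub hZ₀ hZ₀c
  haveI := hi₀; haveI := hY₀
  haveI : LocallyOfFiniteType (i₀ ≫ A.hom) := inferInstance
  haveI : JacobsonSpace Y₀ := LocallyOfFiniteType.jacobsonSpace (i₀ ≫ A.hom)
  obtain ⟨e₀, he₀, he₀c⟩ := nonempty_inter_closedPoints (Set.univ_nonempty (α := Y₀)) isClosed_univ.isLocallyClosed
  rw [mem_closedPoints_iff] at he₀c
  obtain ⟨y, hy, hye, hdim⟩ := AVAmpleLib.exists_curve_not_mem (i₀ ≫ A.hom) e₀ he₀c (F := {e₀}) he₀c rfl (by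
    intro hu
    refine hZ₀inf ?_
    rw [← hr₀, ← Set.image_univ, ← hu, Set.image_singleton]
    exact Set.finite_singleton _)
  obtain ⟨Y, i, hi, hY, hr⟩ := SquareLib.exists_integral_sub (Z := closure ({y} : Set Y₀)) isIrreducible_singleton.closure
    isClosed_closure
  haveI := hi; haveI := hY
  let j : Y ⟶ A.left := i ≫ i₀
  haveI : IsClosedImmersion j := inferInstanceAs (IsClosedImmersion (i ≫ i₀))
  have hdimY : topologicalKrullDim Y ≤ 1 := by
    rw [IsHomeomorph.topologicalKrullDim_eq _ ((i.isEmbedding.toHomeomorph.trans (Homeomorph.setCongr hr)).isHomeomorph)]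
    exact hdim.le
  obtain ⟨C, ν₀, hC, hsurj, hfin⟩ := SquareLib.exists_smooth_normalization (j ≫ A.hom) hdimY
  obtain ⟨hsm, -, -, hgi, hdimC⟩ := hC
  haveI := hsm; haveI := hgi; haveI := hsurj; haveI := hfin
  let ν : C ⟶ A := ν₀ ≫ (Over.homMk j rfl : Over.mk (j ≫ A.hom) ⟶ A)
  have hνl : ν.left = ν₀.left ≫ j := rfl
  haveI : IsFinite ν.left := by rw [hνl]; infer_instance
  haveI : IsProper C.hom := by rw [← Over.w ν]; infer_instance
  haveI : IsLocallyNoetherian C.left := LocallyOfFiniteType.isLocallyNoetherian C.hom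
  haveI : IsIntegral C.left := GeometricallyIntegral.isIntegral_of_subsingleton C.hom
  letI : C.left.Over (Spec (CommRingCat.of k)) := ⟨C.hom⟩
  haveI : Smooth (C.left ↘ Spec (CommRingCat.of k)) := hsm
  have hrange : Set.range ν.left = i₀ '' closure {y} := by
    show Set.range (⇑j ∘ ⇑ν₀.left) = _
    rw [Set.range_comp, ν₀.left.surjective.range_eq, Set.image_univ]
    show Set.range (⇑i₀ ∘ ⇑i) = _
    rw [Set.range_comp, hr]
  -- the inverse image is nowhere zero
  let E₀ := (Scheme.Modules.pullback ν.left).obj F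
  have hE₀ : Coh.IsCoh E₀ := ConsLib.isCoh_pullback ν.left hF
  have hgen : ¬ Subsingleton (E₀.presheaf.stalk (genericPoint C.left)) := by
    show genericPoint C.left ∈ CohB1.support E₀
    rw [Groth.Agent.S4357.result ν.left F hF.2]
    refine hZ₀sub ?_
    rw [← hr₀]
    have : ν.left (genericPoint C.left) ∈ i₀ '' closure {y} := hrange ▸ ⟨_, rfl⟩
    exact Set.image_subset_range _ _ this
  obtain ⟨r, hr0, hE⟩ := exists_locFree_quotient (fun x => CurveVBLib.regular_stalk (k := k) x) hdimC hE₀ hgen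
  have htriv : ∀ x : 𝟙_ (Over (Spec (CommRingCat.of k))) ⟶ At, cP hP ν (toUnit C ≫ x) = 0 := by
    intro x
    obtain ⟨z, rfl⟩ := AVAmpleLib.exists_pow_eq At hr0 x
    let M := (Scheme.Modules.pullback (lift (𝟙 A) (toUnit A ≫ z)).left).obj P
    have hM : PicF.IsInvertible M := AmpleDevLib.isInvertible_pb _ hP
    obtain ⟨θ⟩ := hinv z
    let L := (Scheme.Modules.pullback ν.left).obj M
    have hL : PicF.IsInvertible L := AmpleDevLib.isInvertible_pb _ hM
    have hcl : clA hL = cP hP ν (toUnit C ≫ z) := by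
      rw [← pullA_clA ν.left hM, ← pullA_clA _ hP]
      refine (pullA_comp ν.left (lift (𝟙 A) (toUnit A ≫ z)).left (clA hP)).trans ?_
      rw [← Over.comp_left, comp_lift, Category.comp_id, ← Category.assoc, toUnit_unique (ν ≫ toUnit A) (toUnit C)]
      rfl
    obtain ⟨eQ⟩ := nonempty_quotient_twist hL ((CohCmpLib.invertible_iff_rank_one L).1 hL)
      ((asIso (KFlatLib.pullθ ν.left F M)).symm ≪≫ (Scheme.Modules.pullback ν.left).mapIso θ) hE
    have hz := nsmul_clA_eq_zero hE hL eQ
    rw [hcl] at hz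
    have hpow : ∀ n : ℕ, cP hP ν (toUnit C ≫ z ^ n) = n • cP hP ν (toUnit C ≫ z) := by
      intro n
      induction n with
      | zero => rw [pow_zero, MonObj.comp_one, zero_nsmul, cP_one_right hP hPξ hφ]
      | succ n ih => rw [pow_succ, MonObj.comp_mul, cP_mul_right hP hPξ hφ, ih, succ_nsmul]
    rw [hpow, hz]
  -- two different points of the curve
  haveI : JacobsonSpace C.left := LocallyOfFiniteType.jacobsonSpace C.hom
  have hlift : ∀ x : A.left, IsClosed ({x} : Set A.left) → x ∈ Set.range ν.left →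
      ∃ c : 𝟙_ (Over (Spec (CommRingCat.of k))) ⟶ C, SquareLib.img (c ≫ ν) = x := by
    intro x hx ⟨z, hz⟩
    obtain ⟨w, hw, hwc⟩ := nonempty_inter_closedPoints
      (show (ν.left ⁻¹' {x}).Nonempty from ⟨z, hz⟩) (hx.preimage ν.left.continuous).isLocallyClosed
    obtain ⟨c, hc⟩ := SquareLib.exists_point_at (mem_closedPoints_iff.1 hwc)
    exact ⟨c, (congrArg ν.left hc).trans hw⟩
  have hec : IsClosed ({i₀ e₀} : Set A.left) := by
    rw [← Set.image_singleton]
    exact i₀.isClosedEmbedding.isClosedMap _ he₀c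
  obtain ⟨c, hc⟩ := hlift _ hec (hrange ▸ ⟨e₀, specializes_iff_mem_closure.1 hye, rfl⟩)
  obtain ⟨w, ⟨hw, hwne⟩, hwc⟩ := nonempty_inter_closedPoints (X := A.left)
    (Z := Set.range ν.left \ {i₀ e₀}) ⟨i₀ y, hrange ▸ ⟨y, subset_closure rfl, rfl⟩,
      fun h => hy (i₀.isClosedEmbedding.injective h)⟩
    (ν.left.isClosedMap.isClosed_range.isLocallyClosed.inter hec.isOpen_compl.isLocallyClosed)
  obtain ⟨c', hc'⟩ := hlift w (mem_closedPoints_iff.1 hwc) hw
  refine hwne ?_
  rw [← hc', ← hc, eq_of_trivial_on hφ hP hPξ ν htriv c' c]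
  rfl

end Groth.Agent.FMTransLib

end
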