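import Groth.Agent.Dual3Lib.LpullTensorNat
import Groth.Agent.KoszOrthLib.Ample
import Groth.Agent.AmpleDevLib.Devissage
import Groth.Agent.FMKLib.Twist
import Groth.Agent.DerBCLib.Derived

/-!
# Twists by invertible modules and derived inverse images
-/

set_option autoImplicit false
set_option linter.style.haveILetI false
set_option backward.isDefEq.respectTransparency false
set_option backward.isDefEq.respectTransparency.types false
set_option maxHeartbeats 1000000

universe u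

open CategoryTheory CategoryTheory.Limits AlgebraicGeometry HomologicalComplex
open Groth.Agent.DerLib Groth.Agent.PerfDualLib Groth.Agent.ProjFormLib

attribute [local instance] HasDerivedCategory.standard

namespace Groth.Agent.FMTransLib

variable {X Y : Scheme.{u}}

theorem isKFlat_oneCx {L : X.Modules} (hL : PicF.IsInvertible L) :
    DCoh.IsKFlat ((single X.Modules (ComplexShape.up ℤ) 0).obj L) := by
  refine KFlatLib.isKFlat_of_bounded_flat_mod _ 0 (fun i hi => ?_) (fun i => ?_)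
  · exact isZero_single_obj_X _ _ _ _ (by omega)
  · by_cases h : i = 0
    · subst h
      exact KFlatLib.flat_of_iso (singleObjXSelf (ComplexShape.up ℤ) 0 L).symm
        (KFlatLib.isFlat_of_isFinLocFree (AmpleDevLib.isFinLocFree_of_isInvertible hL))
    · exact KFlatLib.flat_of_isZero (isZero_single_obj_X _ _ _ _ h)

theorem isKFlat_tensorModCx {L : X.Modules} (hL : PicF.IsInvertible L) {P : Cx X} (hP : DCoh.IsKFlat P) :
    DCoh.IsKFlat ((KFlatLib.tensorModCx L).obj P) := by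
  have h := KFlatLib.isKFlat_tensorCx hP (isKFlat_oneCx hL)
  let e₁ := (Gen.tRSingleIso (DCoh.tensorBi (X := X)) L).app P
  let e₂ := (NatIso.mapHomologicalComplex (KoszOrthLib.tRNat L) (ComplexShape.up ℤ)).app P
  exact KFlatLib.isKFlat_cx_of_iso (e₁.symm ≪≫ e₂) h

/-- `g^*(- ⊗ L) ≅ g^*(-) ⊗ g^*L`, derived, for invertible `L`. -/
theorem nonempty_TD_lpull (g : Y ⟶ X) [DCoh.HasLpull g] {L : X.Modules} (hL : PicF.IsInvertible L)
    [PreservesFiniteLimits (DCoh.tensorRightMod L)] [PreservesFiniteColimits (DCoh.tensorRightMod L)]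
    [PreservesFiniteLimits (DCoh.tensorRightMod ((Scheme.Modules.pullback g).obj L))]
    [PreservesFiniteColimits (DCoh.tensorRightMod ((Scheme.Modules.pullback g).obj L))] :
    Nonempty (KoszOrthLib.TD L ⋙ DCoh.Lpull g ≅
      DCoh.Lpull g ⋙ KoszOrthLib.TD ((Scheme.Modules.pullback g).obj L)) := by
  let T := KFlatLib.tensorModCx L
  let T' := KFlatLib.tensorModCx ((Scheme.Modules.pullback g).obj L)
  let P := KFlatLib.resP X
  let f₁ : DerivedCategory.Q ⋙ KoszOrthLib.TD L ≅ T ⋙ DerivedCategory.Q :=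
    (DCoh.tensorRightMod L).mapDerivedCategoryFactors
  let f₂ : DerivedCategory.Q ⋙ KoszOrthLib.TD ((Scheme.Modules.pullback g).obj L) ≅ T' ⋙ DerivedCategory.Q :=
    (DCoh.tensorRightMod _).mapDerivedCategoryFactors
  let l : P ⋙ DerivedCategory.Q ⋙ KoszOrthLib.TD L ⋙ DCoh.Lpull g ≅
      (P ⋙ T) ⋙ KFlatLib.pullCx g ⋙ DerivedCategory.Q :=
    (Functor.isoWhiskerLeft P (Functor.isoWhiskerRight f₁ (DCoh.Lpull g)) :
      P ⋙ DerivedCategory.Q ⋙ KoszOrthLib.TD L ⋙ DCoh.Lpull g ≅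
        (P ⋙ T) ⋙ DerivedCategory.Q ⋙ DCoh.Lpull g) ≪≫
    Dual3Lib.pullResIso g (R := P ⋙ T) (fun M => isKFlat_tensorModCx hL (KFlatLib.good_resP M).1)
  let r : P ⋙ DerivedCategory.Q ⋙ DCoh.Lpull g ⋙ KoszOrthLib.TD ((Scheme.Modules.pullback g).obj L) ≅
      (P ⋙ KFlatLib.pullCx g) ⋙ T' ⋙ DerivedCategory.Q :=
    (Functor.isoWhiskerRight (Dual3Lib.pullResIso g (R := P) fun M => (KFlatLib.good_resP M).1)
        (KoszOrthLib.TD _) :
      P ⋙ DerivedCategory.Q ⋙ DCoh.Lpull g ⋙ KoszOrthLib.TD ((Scheme.Modules.pullback g).obj L) ≅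
        (P ⋙ KFlatLib.pullCx g) ⋙ DerivedCategory.Q ⋙ KoszOrthLib.TD ((Scheme.Modules.pullback g).obj L)) ≪≫
    Functor.isoWhiskerLeft (P ⋙ KFlatLib.pullCx g) f₂
  let m : (P ⋙ T) ⋙ KFlatLib.pullCx g ⋙ DerivedCategory.Q ≅
      (P ⋙ KFlatLib.pullCx g) ⋙ T' ⋙ DerivedCategory.Q :=
    Functor.isoWhiskerLeft P (Functor.isoWhiskerRight (DerBCLib.pullTensCxIso g L) DerivedCategory.Q)
  exact Dual3Lib.nonempty_iso_of_resP _ _ (l ≪≫ m ≪≫ r.symm)

end Groth.Agent.FMTransLib
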