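import Groth.Agent.CurveVBLib.Torsion
import Groth.Agent.QuotSchLib.ZeroLocus
import Groth.Agent.KoszOrthLib.Inv
import Groth.Agent.HopfIneqLib.Sections
import Groth.Agent.ExtTwistLib.Basic
import Groth.Agent.ExtTopLib.Top
import Groth.Agent.CubeConsLib.Seesaw
import Groth.Agent.CubeConsLib.Hom

/-!
# A coherent module fixed by a twist bounds the order of the twist
-/

set_option autoImplicit false
set_option maxHeartbeats 1000000
set_option maxRecDepth 8000
set_option linter.style.haveILetI false
set_option backward.isDefEq.respectTransparency false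
set_option backward.isDefEq.respectTransparency.types false
universe u

open CategoryTheory CategoryTheory.Limits AlgebraicGeometry TopologicalSpace Opposite
open DevissLib CurvLib QCohLib CurveVBLib CubeConsLib

noncomputable section

namespace Groth.Agent.FMTransLib

variable {X : Scheme.{u}} [IsIntegral X]

theorem comp_cokernel_eq_zero {P F : X.Modules} (f : P ⟶ F) (h : (St (genericPoint X)).map f = 0) :
    f ≫ cokernel.π (torSub F).ι = 0 := by
  apply Scheme.Modules.hom_ext
  intro V
  refine ConcreteCategory.hom_ext _ _ fun s => ?_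
  have hmem : (torSub F).mem V (f.app V s) := fun hV => by
    have := DerSch.stalkFunctor_map_germ (genericPoint X) f V hV s
    rw [show (DerSch.stalkFunctor X (genericPoint X)).map f = 0 from h] at this
    exact this.symm
  show (cokernel.π (torSub F).ι).app V (f.app V s) = _
  rw [← LocSub.ι_lift (torSub F) _ hmem]
  exact congrArg (fun g : (torSub F).toModules ⟶ cokernel (torSub F).ι => g.app V ((torSub F).lift _ hmem))
    (cokernel.condition (torSub F).ι)

theorem isZero_St_torSub (F : X.Modules) : IsZero ((St (genericPoint X)).obj (torSub F).toModules) := by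
  refine @ModuleCat.isZero_of_subsingleton _ _ _ (subsingleton_of_forall_eq 0 fun z => ?_)
  obtain ⟨U, hU, s, rfl⟩ := TopCat.Presheaf.exists_germ_eq (torSub F).toModules.presheaf (x := genericPoint X) z
  have hinj : Function.Injective ((St (genericPoint X)).map (torSub F).ι).hom :=
    (ModuleCat.mono_iff_injective _).mp inferInstance
  exact hinj (((DerSch.stalkFunctor_map_germ _ (torSub F).ι U hU s).trans (LocSub.ι_app_mem _ s hU)).trans
    (map_zero _).symm)

theorem isIso_St_π (F : X.Modules) : IsIso ((St (genericPoint X)).map (cokernel.π (torSub F).ι)) := by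
  let S : ShortComplex X.Modules := ShortComplex.mk (torSub F).ι (cokernel.π _) (cokernel.condition _)
  have hS : S.ShortExact :=
    { exact := ShortComplex.exact_of_g_is_cokernel _ (cokernelIsCokernel _)
      mono_f := inferInstanceAs (Mono (torSub F).ι)
      epi_g := inferInstanceAs (Epi (cokernel.π (torSub F).ι)) }
  exact (hS.map_of_exact (St (genericPoint X))).isIso_g_iff.2 (isZero_St_torSub F)

theorem no_rank_zero [IsLocallyNoetherian X] (F : X.Modules) (G : X.Modules) (i : G ⟶ cokernel (torSub F).ι)
    [Mono i] (hG : IsZero ((St (genericPoint X)).obj G)) : IsZero G := by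
  haveI := isIso_St_π F
  let p := pullback.fst (cokernel.π (torSub F).ι) i
  have hp : (St (genericPoint X)).map p = 0 := by
    rw [← cancel_mono ((St (genericPoint X)).map (cokernel.π (torSub F).ι)), zero_comp, ← Functor.map_comp,
      pullback.condition, Functor.map_comp, hG.eq_of_src ((St (genericPoint X)).map i) 0, comp_zero]
  have h1 : pullback.snd (cokernel.π (torSub F).ι) i = 0 := by
    rw [← cancel_mono i, zero_comp, ← pullback.condition, comp_cokernel_eq_zero p hp]
  rw [IsZero.iff_id_eq_zero, ← cancel_epi (pullback.snd (cokernel.π (torSub F).ι) i), h1, zero_comp, zero_comp]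

/-- The quotient by the torsion of a coherent module on a regular curve. -/
theorem exists_locFree_quotient [IsLocallyNoetherian X] (hreg : ∀ x : X, IsRegularLocalRing (X.presheaf.stalk x))
    (hdim : topologicalKrullDim X ≤ 1) {F : X.Modules} (hF : Coh.IsCoh F)
    (hF0 : ¬ Subsingleton (F.presheaf.stalk (genericPoint X))) :
    ∃ r : ℕ, 0 < r ∧ FlatMod.IsFinLocFreeOfRank r (cokernel (torSub F).ι) := by
  haveI : Coh.IsQCoh F := hF.1
  have hQ : Coh.IsCoh (cokernel (torSub F).ι) := QCohLib.isCoh_cokernel _ (isCoh_torSub hF).1 hF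
  have htf := torsionFree_of_no_rank_zero hQ fun G i hi hG h0 => by
    haveI := hi
    refine no_rank_zero F G i ?_
    letI : Field (X.presheaf.stalk (genericPoint X)) := (inferInstance : Field X.functionField)
    haveI := DevissLib.isNoetherian_stalk hG (genericPoint X)
    exact @ModuleCat.isZero_of_subsingleton _ _ _ (Module.finrank_zero_iff.1 h0)
  have hlf := (Groth.Agent.S1688.result X hreg hdim _ hQ).1 htf
  refine ⟨_, Nat.pos_of_ne_zero fun h0 => hF0 ?_, rank_genRank hlf⟩
  haveI := isIso_St_π F
  letI : Field (X.presheaf.stalk (genericPoint X)) := (inferInstance : Field X.functionField)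
  haveI := DevissLib.isNoetherian_stalk hQ (genericPoint X)
  haveI : Subsingleton ((St (genericPoint X)).obj (cokernel (torSub F).ι)) := Module.finrank_zero_iff.1 h0
  exact (asIso ((St (genericPoint X)).map (cokernel.π (torSub F).ι))).toLinearEquiv.toEquiv.subsingleton

/-- A twist fixing a module fixes its quotient by torsion. -/
theorem nonempty_quotient_twist {F : X.Modules} {L : X.Modules} (hL : PicF.IsInvertible L)
    (hL1 : FlatMod.IsFinLocFreeOfRank 1 L) (θ : CohB1.tensorMod F L ≅ F)
    {r : ℕ} (hr : FlatMod.IsFinLocFreeOfRank r (cokernel (torSub F).ι)) :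
    Nonempty (CohB1.tensorMod (cokernel (torSub F).ι) L ≅ cokernel (torSub F).ι) := by
  let T := DCoh.tensorRightMod L
  haveI := KoszOrthLib.preservesFiniteLimits_tensorRightMod hL
  haveI := KoszOrthLib.preservesFiniteColimits_tensorRightMod hL
  let π := cokernel.π (torSub F).ι
  have hzT : IsZero ((St (genericPoint X)).obj (T.obj (torSub F).toModules)) := by
    have hS := ModuleCat.subsingleton_of_isZero (isZero_St_torSub F)
    refine @ModuleCat.isZero_of_subsingleton _ _ _ (subsingleton_of_forall_eq 0 fun z => ?_)
    obtain ⟨t, rfl⟩ := (KFlatLib.stalkTensorLin_bijective (torSub F).toModules L (genericPoint X)).2 z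
    rw [show t = 0 from @Subsingleton.elim _ (by
      haveI : Subsingleton ((torSub F).toModules.presheaf.stalk (genericPoint X)) := hS
      infer_instance) t 0]
    exact map_zero _
  have hf : T.map (torSub F).ι ≫ θ.hom ≫ π = 0 := by
    rw [← Category.assoc]
    exact comp_cokernel_eq_zero _ (hzT.eq_of_src _ _)
  let e := PreservesCokernel.iso T (torSub F).ι
  let ψ : T.obj (cokernel (torSub F).ι) ⟶ cokernel (torSub F).ι := e.hom ≫ cokernel.desc _ (θ.hom ≫ π) hf
  haveI : Epi (cokernel.desc (T.map (torSub F).ι) (θ.hom ≫ π) hf) :=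
    epi_of_epi_fac (cokernel.π_desc _ _ hf)
  haveI : Epi ψ := epi_comp _ _
  have hA : FlatMod.IsFinLocFreeOfRank r (T.obj (cokernel (torSub F).ι)) := by
    have := HopfIneqLib.locFree_tensor hr hL1
    rwa [mul_one] at this
  haveI : IsIso ψ := QuotSchLib.isIso_of_epi_rank hA hr ψ
  exact ⟨asIso ψ⟩

omit [IsIntegral X] in
/-- The determinant trick. -/
theorem nsmul_clA_eq_zero [IsLocallyNoetherian X] {E L : X.Modules} {r : ℕ}
    (hE : FlatMod.IsFinLocFreeOfRank r E) (hL : PicF.IsInvertible L) (e : CohB1.tensorMod E L ≅ E) :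
    r • clA hL = 0 := by
  have hN : ExtPow.IsExtPow r E (ExtTopLib.ext E r) := by
    refine ⟨fun U => (LinearEquiv.ofBijective (ExtTopLib.unit E r U.1) (ExtTopLib.unit_bijective hE U)).symm,
      fun U V h v => ?_⟩
    rw [LinearEquiv.symm_symm, LinearEquiv.symm_symm]
    exact ExtTopLib.unit_res E r h v
  obtain ⟨φ, hφ⟩ := hN
  let m : ∀ U : X.Opens, ((CohB1.tensorMod E L).val.obj (op U)) ≃ₗ[Γ(X, U)] (E.val.obj (op U)) := fun U =>
    { toFun := fun a => e.hom.app U a
      invFun := fun a => e.inv.app U a
      map_add' := fun a b => map_add (e.hom.app U).hom a b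
      map_smul' := fun c a => Scheme.Modules.Hom.app_smul e.hom c a
      left_inv := fun a => congrArg (fun g : CohB1.tensorMod E L ⟶ CohB1.tensorMod E L => g.app U a) e.hom_inv_id
      right_inv := fun a => congrArg (fun g : E ⟶ E => g.app U a) e.inv_hom_id }
  have hM : ExtPow.IsExtPow r (CohB1.tensorMod E L) (ExtTopLib.ext E r) := by
    refine ⟨fun U => (φ U).trans (LinearEquiv.ofBijective _ (ExtTwistLib.map_bijective r (m U.1).symm)), fun U V h v => ?_⟩
    have key : ∀ (U : X.affineOpens) (v : Fin r → (CohB1.tensorMod E L).val.obj (op U.1)),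
        ((φ U).trans (LinearEquiv.ofBijective _ (ExtTwistLib.map_bijective r (m U.1).symm))).symm
          (exteriorPower.ιMulti Γ(X, U.1) r v) = (φ U).symm (exteriorPower.ιMulti Γ(X, U.1) r fun j => m U.1 (v j)) :=
      fun U v => by
        rw [LinearEquiv.symm_apply_eq, LinearEquiv.trans_apply, LinearEquiv.apply_symm_apply,
          LinearEquiv.ofBijective_apply, exteriorPower.map_apply_ιMulti]
        exact congrArg _ (funext fun j => ((m U.1).symm_apply_apply (v j)).symm)
    rw [key U v, key V]
    refine (hφ U V h fun j => m U.1 (v j)).trans (congrArg (fun z => (φ V).symm (exteriorPower.ιMulti Γ(X, V.1) r z))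
      (funext fun j => ?_))
    exact (QCohLib.app_map e.hom (homOfLE h) (v j)).symm
  have hD := ExtTopLib.isInvertible_ext hE
  have hLr := AmpleThLib.tensorPow_isInvertible hL r
  obtain ⟨i⟩ := ExtTwistLib.nonempty_extPow_twist E L hL r _ _ hM ⟨φ, hφ⟩
  have h1 := (clA_eq_iff hD (HilbPolyLib.isInvertible_tensor hD hLr)).2 ⟨i⟩
  rw [clA_tensor hD hLr, left_eq_add] at h1
  have hp : ∀ (n : ℕ) (h : PicF.IsInvertible (CohB1.tensorPow L n)), clA h = n • clA hL := by
    intro n
    induction n with
    | zero => intro h; rw [zero_nsmul, ← clA_one]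
    | succ n ih =>
      intro h
      rw [succ_nsmul, ← ih (AmpleThLib.tensorPow_isInvertible hL n), ← clA_tensor (AmpleThLib.tensorPow_isInvertible hL n) hL]
  rw [← hp r hLr]
  exact h1

end Groth.Agent.FMTransLib

end
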